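import Cfsg.Agent.Lib.SpFourCore.Standard.Top

/-!
# An automorphism normalising both standard lifts is inner times diagonal
-/

set_option autoImplicit false
set_option linter.unusedSectionVars false

namespace Cfsg.Agent.SpFourCore.Standard

open EvenLin

variable {K : Type*} [Field K] [CharP K 2] [Finite K]

/-- coordinates on `a = 0` -/
def chartA : (Syl.subA : Subgroup (Syl K)) ≃ K × K × K where
  toFun x := (x.1.b, x.1.c, x.1.d)
  invFun v := ⟨⟨0, v.1, v.2.1, v.2.2⟩, rfl⟩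
  left_inv x := Subtype.ext (Syl.ext (Eq.symm x.2) rfl rfl rfl)
  right_inv _ := rfl

theorem chartA_mul (x y : (Syl.subA : Subgroup (Syl K))) : chartA (x * y) = chartA x + chartA y := by
  have hx : x.1.a = 0 := x.2
  ext <;> simp [chartA, hx]

theorem autPerm_conjA (g : Syl K) :
    autPerm (chartA (K := K)) (MulAut.conjNormal g) = shift g.a := by
  refine Equiv.ext fun v => ?_
  rw [autPerm_apply]
  show (((MulAut.conjNormal g (chartA.symm v) : (Syl.subA : Subgroup (Syl K))) : Syl K).b,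
    ((MulAut.conjNormal g (chartA.symm v) : (Syl.subA : Subgroup (Syl K))) : Syl K).c,
    ((MulAut.conjNormal g (chartA.symm v) : (Syl.subA : Subgroup (Syl K))) : Syl K).d) = _
  rw [MulAut.conjNormal_apply, Syl.conj_eq]
  simp [chartA, CharTwo.two_eq_zero]

variable (hp : ∀ x : K, x ^ 4 = x)

/-- coordinates on `b = 0` -/
def chartB : (Syl.subB : Subgroup (Syl K)) ≃ K × K × K where
  toFun x := (x.1.a, x.1.c, x.1.d ^ 2)
  invFun v := ⟨⟨v.1, 0, v.2.1, v.2.2 ^ 2⟩, rfl⟩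
  left_inv x := Subtype.ext (Syl.ext rfl (Eq.symm x.2) rfl (by
    simp only
    rw [← pow_mul]
    exact hp _))
  right_inv v := by
    simp only
    rw [← pow_mul, hp]

theorem chartB_mul (x y : (Syl.subB : Subgroup (Syl K))) :
    chartB hp (x * y) = chartB hp x + chartB hp y := by
  have hy : y.1.b = 0 := y.2
  ext <;> simp [chartB, hy, CharTwo.two_eq_zero, CharTwo.add_sq]

theorem autPerm_conjB (g : Syl K) :
    autPerm (chartB hp) (MulAut.conjNormal g) = shift g.b := by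
  refine Equiv.ext fun v => ?_
  rw [autPerm_apply]
  show (((MulAut.conjNormal g ((chartB hp).symm v) : (Syl.subB : Subgroup (Syl K))) : Syl K).a,
    ((MulAut.conjNormal g ((chartB hp).symm v) : (Syl.subB : Subgroup (Syl K))) : Syl K).c,
    ((MulAut.conjNormal g ((chartB hp).symm v) : (Syl.subB : Subgroup (Syl K))) : Syl K).d ^ 2) = _
  rw [MulAut.conjNormal_apply, Syl.conj_eq]
  simp [chartB, CharTwo.two_eq_zero, CharTwo.add_sq, sub_eq_add_neg, CharTwo.neg_eq]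
  refine ⟨mul_comm _ _, ?_⟩
  linear_combination hp v.2.2 + g.b ^ 2 * hp v.1

variable (K) in
/-- Two elements of the standard lift with the same plane part are equal. -/
def LiftInj : Prop := ∀ y ∈ lifted K, ∀ z ∈ lifted K, (∀ v, pr (y v) = pr (z v)) → y = z

include hp in
/-- **Rigidity.** -/
theorem rigid (hinj : LiftInj K) {x : Equiv.Perm (K × K × K)} {l m n : K} (hl : l ≠ 0) (hm : m ≠ 0)
    (ν₁ ν₂ : K →+ K)
    (hx : ∀ v : K × K × K, x v = (l * v.1, m * v.2.1 + ν₁ v.1, n * v.2.2 + ν₂ v.1))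
    (hnorm : x * swap3 * x⁻¹ ∈ lifted K) :
    ∃ a : K, ∀ v : K × K × K, x v = shift a (l * v.1, m * v.2.1, n * v.2.2) := by
  have hcalc : ∀ (x : Equiv.Perm (K × K × K)) v, (x * swap3 * x⁻¹ : Equiv.Perm (K × K × K)) (x v) = x (swap3 v) :=
    fun x v => by simp [Equiv.Perm.mul_apply]
  -- linearity
  obtain ⟨-, l₀, hl₀, hover⟩ := lifted_props hnorm
  have h1 : ∀ c, l₀ (0, m * c) = (l * c, ν₁ c) := fun c => by
    have e := congrArg pr (hcalc x (0, c, 0))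
    rw [hover, hx, hx] at e
    simpa [pr] using e
  have hν : ∀ c, ν₁ c = ν₁ 1 * c := fun c => by
    have e := sl_linear hl₀ c (0, m * 1)
    rw [h1] at e
    simp only [mul_zero, mul_one] at e
    rw [mul_comm c m, h1] at e
    exact (congrArg Prod.snd e).trans (mul_comm _ _)
  refine ⟨ν₁ 1 / l, ?_⟩
  set a := ν₁ 1 / l with ha
  let x' := shift a * x
  have hx' : ∀ v : K × K × K,
      x' v = (l * v.1, m * v.2.1, n * v.2.2 + ν₂ v.1 + a ^ 2 * (l * v.1)) := fun v => by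
    show shift a (x v) = _
    rw [hx, shift_apply]
    refine Prod.ext rfl (Prod.ext ?_ rfl)
    show m * v.2.1 + ν₁ v.1 + a * (l * v.1) = m * v.2.1
    rw [hν, ha, ← mul_assoc, div_mul_cancel₀ _ hl, add_assoc, add_self, add_zero]
  have hnorm' : x' * swap3 * x'⁻¹ ∈ lifted K := by
    have := mul_mem (mul_mem (shift_mem_lifted a) hnorm) (inv_mem (shift_mem_lifted a))
    simpa [x', mul_assoc, _root_.mul_inv_rev] using this
  obtain ⟨-, l₁, hl₁, hover'⟩ := lifted_props hnorm'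
  set κ := l / m with hκ
  have hκ3 : κ ^ 3 = 1 := pow_three' hp (div_ne_zero hl hm)
  have h2 : ∀ v : K × K × K, pr ((x' * swap3 * x'⁻¹ : Equiv.Perm (K × K × K)) v) = pr (weylD κ v) := by
    intro v
    obtain ⟨u, rfl⟩ := x'.surjective v
    rw [hcalc, hx', hx', weylD_apply hκ3]
    simp only [pr, swap3_apply, hκ]
    refine Prod.ext ?_ ?_ <;> simp <;> field_simp
  have e := hinj _ hnorm' _ (weylD_mem_lifted κ) h2
  intro v
  have h3 : ν₂ v.1 + a ^ 2 * (l * v.1) = 0 := by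
    have e' := congrArg (fun t : Equiv.Perm (K × K × K) => (t (x' (v.1, 0, 0))).2.2) e
    rw [hcalc, hx', hx', weylD_apply hκ3] at e'
    simpa using e'.symm
  rw [hx, shift_apply, hν]
  refine Prod.ext rfl (Prod.ext ?_ ?_)
  · show _ = m * v.2.1 + a * (l * v.1)
    rw [ha, ← mul_assoc, div_mul_cancel₀ _ hl]
  · show _ = n * v.2.2 + a ^ 2 * (l * v.1)
    linear_combination h3 - add_self (a ^ 2 * (l * v.1))

include hp in
/-- **The top automizer.** -/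
theorem Good.exists_conj_diag (hinj : LiftInj K) {θ : MulAut (Syl K)} (h : Good θ)
    {xA xB : Equiv.Perm (K × K × K)}
    (hA : ∀ v, θ (chartA.symm v : Syl K) = (chartA.symm (xA v) : Syl K))
    (hB : ∀ v, θ ((chartB hp).symm v : Syl K) = ((chartB hp).symm (xB v) : Syl K))
    (nA : xA * swap3 * xA⁻¹ ∈ lifted K) (nB : xB * swap3 * xB⁻¹ ∈ lifted K) :
    ∃ (g : Syl K) (k l : K) (hk : k ≠ 0) (hl : l ≠ 0), θ = MulAut.conj g * diagAut hk hl := by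
  obtain ⟨k, l, hk, hl, hab, hZ⟩ := h.exists_coords hp
  -- additive error terms
  have hsplitA : ∀ b c d, θ ⟨0, b, c, d⟩ = ⟨0, l * b, k * l * c + (θ ⟨0, b, 0, 0⟩).c,
      k ^ 2 * l * d + (θ ⟨0, b, 0, 0⟩).d⟩ := fun b c d => by
    have e : θ ⟨0, b, c, d⟩ = θ ⟨0, 0, c, d⟩ * θ ⟨0, b, 0, 0⟩ := by
      rw [← map_mul]; congr 1; ext <;> simp
    rw [e, hZ]
    ext <;> simp [hab, CharTwo.two_eq_zero]
  have hsplitB : ∀ a c d, θ ⟨a, 0, c, d⟩ = ⟨k * a, 0, k * l * c + (θ ⟨a, 0, 0, 0⟩).c,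
      k ^ 2 * l * d + (θ ⟨a, 0, 0, 0⟩).d⟩ := fun a c d => by
    have e : θ ⟨a, 0, c, d⟩ = θ ⟨0, 0, c, d⟩ * θ ⟨a, 0, 0, 0⟩ := by
      rw [← map_mul]; congr 1; ext <;> simp
    rw [e, hZ]
    ext <;> simp [hab, CharTwo.two_eq_zero]
  let μ₁ : K →+ K := AddMonoidHom.mk' (fun b => (θ ⟨0, b, 0, 0⟩).c) fun b b' => by
    show (θ ⟨0, b + b', 0, 0⟩).c = _
    rw [show (⟨0, b + b', 0, 0⟩ : Syl K) = ⟨0, b, 0, 0⟩ * ⟨0, b', 0, 0⟩ by ext <;> simp, map_mul,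
      Syl.mul_c, h.memA ⟨0, b, 0, 0⟩ rfl, zero_mul, add_zero]
  let μ₂ : K →+ K := AddMonoidHom.mk' (fun b => (θ ⟨0, b, 0, 0⟩).d) fun b b' => by
    show (θ ⟨0, b + b', 0, 0⟩).d = _
    rw [show (⟨0, b + b', 0, 0⟩ : Syl K) = ⟨0, b, 0, 0⟩ * ⟨0, b', 0, 0⟩ by ext <;> simp, map_mul,
      Syl.mul_d, h.memA ⟨0, b, 0, 0⟩ rfl]
    simp
  let ν₁ : K →+ K := AddMonoidHom.mk' (fun a => (θ ⟨a, 0, 0, 0⟩).c) fun a a' => by
    show (θ ⟨a + a', 0, 0, 0⟩).c = _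
    rw [show (⟨a + a', 0, 0, 0⟩ : Syl K) = ⟨a, 0, 0, 0⟩ * ⟨a', 0, 0, 0⟩ by ext <;> simp, map_mul,
      Syl.mul_c, h.memB ⟨a', 0, 0, 0⟩ rfl, mul_zero, add_zero]
  let ν₂ : K →+ K := AddMonoidHom.mk' (fun a => (θ ⟨a, 0, 0, 0⟩).d ^ 2) fun a a' => by
    show (θ ⟨a + a', 0, 0, 0⟩).d ^ 2 = _
    rw [show (⟨a + a', 0, 0, 0⟩ : Syl K) = ⟨a, 0, 0, 0⟩ * ⟨a', 0, 0, 0⟩ by ext <;> simp, map_mul,
      Syl.mul_d, h.memB ⟨a', 0, 0, 0⟩ rfl]
    simp [CharTwo.two_eq_zero, CharTwo.add_sq]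
  have hxA : ∀ v : K × K × K, xA v = (l * v.1, k * l * v.2.1 + μ₁ v.1, k ^ 2 * l * v.2.2 + μ₂ v.1) := by
    intro v
    have e : (chartA.symm (xA v) : Syl K) = ⟨0, _, _, _⟩ := (hA v).symm.trans (hsplitA _ _ _)
    exact Prod.ext (congrArg Syl.b e) (Prod.ext (congrArg Syl.c e) (congrArg Syl.d e))
  have hxB : ∀ v : K × K × K, xB v = (k * v.1, k * l * v.2.1 + ν₁ v.1, k * l ^ 2 * v.2.2 + ν₂ v.1) := by
    intro v
    have e : ((chartB hp).symm (xB v) : Syl K) = ⟨_, 0, _, _⟩ := (hB v).symm.trans (hsplitB _ _ _)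
    refine Prod.ext (congrArg Syl.a e) (Prod.ext (congrArg Syl.c e) ?_)
    have ed : (xB v).2.2 ^ 2 = k ^ 2 * l * v.2.2 ^ 2 + (θ ⟨v.1, 0, 0, 0⟩).d := congrArg Syl.d e
    show (xB v).2.2 = k * l ^ 2 * v.2.2 + (θ ⟨v.1, 0, 0, 0⟩).d ^ 2
    rw [← hp (xB v).2.2, show (4 : ℕ) = 2 * 2 from rfl, pow_mul, ed, CharTwo.add_sq]
    linear_combination l ^ 2 * v.2.2 ^ 4 * hp k + k * l ^ 2 * hp v.2.2
  obtain ⟨α, hα⟩ := rigid hp hinj hl (mul_ne_zero hk hl) μ₁ μ₂ hxA nA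
  obtain ⟨β, hβ⟩ := rigid hp hinj hk (mul_ne_zero hk hl) ν₁ ν₂ hxB nB
  refine ⟨⟨α, β, 0, 0⟩, k, l, hk, hl, ?_⟩
  have eA : ∀ b c d, θ ⟨0, b, c, d⟩ =
      (MulAut.conj (⟨α, β, 0, 0⟩ : Syl K) * diagAut hk hl) ⟨0, b, c, d⟩ := fun b c d => by
    have e := hA (b, c, d)
    rw [hα] at e
    refine e.trans ?_
    rw [MulAut.mul_apply, diagAut_apply, MulAut.conj_apply, Syl.conj_eq]
    ext <;> simp [chartA, CharTwo.two_eq_zero]
  have eB : ∀ a c d, θ ⟨a, 0, c, d⟩ =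
      (MulAut.conj (⟨α, β, 0, 0⟩ : Syl K) * diagAut hk hl) ⟨a, 0, c, d⟩ := fun a c d => by
    have e := hB (a, c, d ^ 2)
    rw [hβ] at e
    have e0 : ((chartB hp).symm (a, c, d ^ 2) : Syl K) = ⟨a, 0, c, d⟩ :=
      Syl.ext rfl rfl rfl (by show (d ^ 2) ^ 2 = d; rw [← pow_mul]; exact hp d)
    rw [e0] at e
    refine e.trans ?_
    rw [MulAut.mul_apply, diagAut_apply, MulAut.conj_apply, Syl.conj_eq]
    refine Syl.ext (by simp [chartB]) (by simp [chartB]) ?_ ?_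
    · simp [chartB, sub_eq_add_neg, CharTwo.neg_eq]; ring
    · simp [chartB, CharTwo.two_eq_zero, sub_eq_add_neg, CharTwo.neg_eq, CharTwo.add_sq]
      linear_combination k ^ 2 * l ^ 4 * hp d - k ^ 2 * d * (0 : K) + k ^ 2 * d * hp l +
        k ^ 2 * a ^ 2 * hp β
  refine MulEquiv.ext fun x => ?_
  rw [show x = (⟨0, x.b, 0, 0⟩ : Syl K) * ⟨x.a, 0, x.c, x.d⟩ by ext <;> simp, map_mul, map_mul,
    eA, eB]

end Cfsg.Agent.SpFourCore.Standard
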