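import Cfsg.Agent.Lib.SpFourCore.StandardDef
import Cfsg.Agent.Lib.SpFourCore.Standard.Rigid

/-!
# The automizer of one of the two elementary abelian subgroups, normalised
-/

set_option autoImplicit false
set_option linter.unusedSectionVars false

namespace Cfsg.Agent.SpFourCore.Standard

open Cfsg Cfsg.FusionSystem Cfsg.Agent.Fusion.Basic
open EvenLin

variable {K : Type*} [Field K] [CharP K 2] [Finite K]

/-- The properties of a coordinate system. -/
structure IsChart (P : Subgroup (Syl K)) [P.Normal] (e : P ≃ K × K × K) (r : Syl K → K) : Prop where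
  map_mul : ∀ x y, e (x * y) = e x + e y
  conj : ∀ g, autPerm e (MulAut.conjNormal g) = shift (r g)
  surj : ∀ a, ∃ g, r g = a
  long : ∀ v : K × K × K, Syl.IsLong (e.symm v : Syl K) ↔ v.1 = 0 ∧ v.2.1 = 0
  centre : ∀ v : K × K × K, ((e.symm v : Syl K).a = 0 ∧ (e.symm v : Syl K).b = 0) ↔ v.1 = 0

theorem isChartA : IsChart (Syl.subA : Subgroup (Syl K)) chartA Syl.a where
  map_mul := chartA_mul
  conj := autPerm_conjA
  surj a := ⟨⟨a, 0, 0, 0⟩, rfl⟩
  long v := by simp [Syl.IsLong, chartA]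
  centre v := by simp [chartA]

theorem isChartB (hp : ∀ x : K, x ^ 4 = x) :
    IsChart (Syl.subB : Subgroup (Syl K)) (chartB hp) Syl.b where
  map_mul := chartB_mul hp
  conj := autPerm_conjB hp
  surj a := ⟨⟨0, a, 0, 0⟩, rfl⟩
  long v := by simp [Syl.IsLong, chartB]
  centre v := by simp [chartB]

/-- In coordinates: an element moving the centre out of itself. -/
def Moves (F : FusionSystem (⊤ : Subgroup (Syl K))) (P : Subgroup (Syl K)) : Prop :=
  ∃ α ∈ F.autGroup P, ∃ x ∈ P, x.a = 0 ∧ x.b = 0 ∧ ¬ ((autFun α x).a = 0 ∧ (autFun α x).b = 0)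

variable {P : Subgroup (Syl K)} [P.Normal] {e : P ≃ K × K × K} {r : Syl K → K}
  {F : FusionSystem (⊤ : Subgroup (Syl K))}

theorem IsChart.exists_setup (hC : IsChart P e r) (hF : F.IsSaturated 2) :
    ∃ U : Sylow 2 (autImage F e), Setup (autImage F e) U ∧
      ∀ x : autImage F e, x ∈ U ↔ ∃ g, (x : Equiv.Perm (K × K × K)) = autPerm e (MulAut.conjNormal g) := by
  have : Fact (Nat.Prime 2) := ⟨Nat.prime_two⟩
  obtain ⟨U, hU⟩ := exists_sylow_autImage (F := F) Syl.isPGroup hF e
  refine ⟨U, ⟨autImage_map_add e hC.map_mul, fun x => ?_, fun a => ?_⟩, hU⟩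
  · rw [hU]
    refine ⟨fun ⟨g, hg⟩ => ⟨r g, hg.trans (hC.conj g)⟩, fun ⟨a, ha⟩ => ?_⟩
    obtain ⟨g, rfl⟩ := hC.surj a
    exact ⟨g, ha.trans (hC.conj g).symm⟩
  · obtain ⟨g, rfl⟩ := hC.surj a
    exact hC.conj g ▸ conj_mem_autImage e g

theorem mem_autImage_autFun {x : Equiv.Perm (K × K × K)} (hx : x ∈ autImage F e) :
    ∃ α ∈ F.autGroup P, ∀ v, (e.symm (x v) : Syl K) = autFun α (e.symm v : Syl K) := by
  obtain ⟨α, hα, rfl⟩ := hx
  exact ⟨α, hα, fun v => by rw [autFun_apply]; simp⟩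

/-- **The side.** -/
theorem IsChart.exists_side (hC : IsChart P e r) (hF : F.IsSaturated 2)
    (hlong : ∀ α ∈ F.autGroup P, ∀ x : Syl K, x.IsLong → (autFun α x).IsLong)
    (hmove : Moves F P) :
    ∃ f g : K →+ K, Rig (twisted (autImage F e) f g) 0 ∧ lifted K ≤ twisted (autImage F e) f g ∧
      (∀ x ∈ twisted (autImage F e) f g, ∀ l ∈ lifted K, x * l * x⁻¹ ∈ lifted K) ∧
      (∀ x ∈ twisted (autImage F e) f g, ∃ l ∈ lifted K, ∃ θ ∈ topAut F,
        ∀ v, θ (e.symm v : Syl K) = (e.symm ((twist f g * (l⁻¹ * x) * twist f g) v) : Syl K)) ∧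
      ∀ x ∈ twisted (autImage F e) f g, (∀ a, ∃ b, x * shift a * x⁻¹ = shift b) → ∃ θ ∈ topAut F,
        ∀ v, θ (e.symm v : Syl K) = (e.symm ((twist f g * x * twist f g) v) : Syl K) := by
  classical
  have : Fact (Nat.Prime 2) := ⟨Nat.prime_two⟩
  have h2 : (2 : K) = 0 := CharTwo.two_eq_zero
  obtain ⟨U, hS, hU⟩ := hC.exists_setup hF
  have hD : ∀ g : autImage F e, ∀ v ∈ dAxis K, hS.hom g v ∈ dAxis K := by
    intro g v hv
    obtain ⟨α, hα, hαv⟩ := mem_autImage_autFun g.2
    refine (hC.long _).1 ?_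
    show Syl.IsLong (e.symm ((g : Equiv.Perm (K × K × K)) v) : Syl K)
    rw [hαv]
    exact hlong α hα _ ((hC.long v).2 hv)
  have hn : ¬ (U : Subgroup (autImage F e)).Normal := by
    intro hN
    obtain ⟨α, hα, x, hx, hxa, hxb, hmv⟩ := hmove
    let y : autImage F e := ⟨autPerm e α, α, hα, rfl⟩
    obtain ⟨θ, -, hθe⟩ := exists_topAut_of_normalizes (F := F) Syl.isPGroup hF e hU (x := y)
      (Subgroup.normalizer_eq_top_iff.2 hN ▸ Subgroup.mem_top y)
    have e1 := hθe (e ⟨x, hx⟩)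
    simp only [y, autPerm_apply, Equiv.symm_apply_apply] at e1
    have hc : θ x ∈ Subgroup.center (Syl K) := by
      have hxc := (Syl.mem_center_iff_of_two_eq h2 x).2 ⟨hxa, hxb⟩
      refine Subgroup.mem_center_iff.2 fun g => ?_
      obtain ⟨g, rfl⟩ := θ.surjective g
      rw [← _root_.map_mul, ← _root_.map_mul, Subgroup.mem_center_iff.1 hxc g]
    refine hmv ?_
    rw [autFun_of_mem α hx, ← e1]
    exact (Syl.mem_center_iff_of_two_eq h2 _).1 hc
  obtain ⟨f, hrig⟩ := rig_of_setup hS hn hD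
  obtain ⟨g, hrig', hle, hnorm⟩ := hrig.exists_lifted
  set T := twist f g with hT
  have hcancel : ∀ y, T * (T * y * T) * T = y := fun y => by
    simp only [mul_assoc, hT, twist_self, mul_one]
    rw [← mul_assoc, twist_self, one_mul]
  let N : Subgroup (autImage F e) :=
    ((lifted K).map (MulAut.conj T).toMonoidHom).subgroupOf (autImage F e)
  have hNmem : ∀ n : autImage F e, n ∈ N ↔ T * (n : Equiv.Perm (K × K × K)) * T ∈ lifted K := fun n => by
    show (n : Equiv.Perm (K × K × K)) ∈ twisted (lifted K) f g ↔ _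
    rw [mem_twisted]
  have hinX : ∀ y : autImage F e, T * (y : Equiv.Perm (K × K × K)) * T ∈ twisted (autImage F e) f g :=
    fun y => mem_twisted.2 (by rw [← hT, hcancel]; exact y.2)
  have hN : N.Normal := ⟨fun n hn y => by
    rw [hNmem] at hn ⊢
    have := hnorm _ (hinX y) _ hn
    convert this using 1
    simp only [Subgroup.coe_mul, Subgroup.coe_inv, hT, _root_.mul_inv_rev, twist_inv, mul_assoc]
    simp only [← mul_assoc (twist f g) (twist f g), twist_self, one_mul]⟩
  have hUN : (U : Subgroup (autImage F e)) ≤ N := fun u hu => by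
    obtain ⟨a, ha⟩ := (hS.mem_iff u).1 hu
    rw [hNmem, ha, hT, twist_shift, mul_assoc, twist_self, mul_one]
    exact shift_mem_lifted a
  have htop := Sylow.normalizer_sup_eq_top' U hUN
  refine ⟨f, g, hrig', hle, hnorm, fun x hx => ?_, fun x hx hsh => ?_⟩
  · let y : autImage F e := ⟨T * x * T, mem_twisted.1 hx⟩
    have hy : y ∈ Subgroup.normalizer ((U : Subgroup (autImage F e)) : Set (autImage F e)) ⊔ N :=
      htop ▸ Subgroup.mem_top y
    obtain ⟨n, hn, m, hm, hnm⟩ := Subgroup.mem_sup_of_normal_right.1 hy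
    obtain ⟨θ, hθ, hθe⟩ := exists_topAut_of_normalizes (F := F) Syl.isPGroup hF e hU hn
    have hl : T * ((n * m * n⁻¹ : autImage F e) : Equiv.Perm (K × K × K)) * T ∈ lifted K :=
      (hNmem _).1 (hN.conj_mem m hm n)
    refine ⟨_, hl, θ, hθ, fun v => ?_⟩
    rw [hθe]
    congr 3
    have e1 : (n : Equiv.Perm (K × K × K)) * (m : Equiv.Perm (K × K × K)) = T * x * T :=
      congrArg Subtype.val hnm
    have ex : x = T * ((n : Equiv.Perm (K × K × K)) * (m : Equiv.Perm (K × K × K))) * T := by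
      rw [e1, hcancel]
    rw [ex]
    simp only [Subgroup.coe_mul, Subgroup.coe_inv, hT, _root_.mul_inv_rev, twist_inv, mul_assoc,
      twist_self, mul_one, inv_inv]
    simp only [← mul_assoc (twist f g) (twist f g), twist_self, one_mul]
    group
  · let y : autImage F e := ⟨T * x * T, mem_twisted.1 hx⟩
    refine exists_topAut_of_normalizes (F := F) Syl.isPGroup hF e hU (x := y) ?_
    refine Subgroup.mem_normalizer_fintype (fun u hu => ?_)
    obtain ⟨a, ha⟩ := (hS.mem_iff u).1 hu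
    obtain ⟨b, hb⟩ := hsh a
    refine (hS.mem_iff _).2 ⟨b, ?_⟩
    simp only [y, Subgroup.coe_mul, Subgroup.coe_inv, ha, hT, _root_.mul_inv_rev, twist_inv]
    rw [show twist f g * x * twist f g * shift a * (twist f g * (x⁻¹ * twist f g)) =
      twist f g * x * (twist f g * shift a * twist f g) * x⁻¹ * twist f g by simp only [mul_assoc],
      twist_shift, mul_assoc (shift a), twist_self, mul_one, mul_assoc (twist f g) x,
      mul_assoc (twist f g) (x * shift a), hb, twist_shift, mul_assoc, twist_self, mul_one]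

end Cfsg.Agent.SpFourCore.Standard
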