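import Cfsg.Agent.Lib.SpFourCore.EvenMain
import Cfsg.Agent.Lib.SpFourCore.Standard.Side

/-!
# The normal form of a system with invariant long axis
-/

set_option autoImplicit false
set_option linter.unusedSectionVars false

namespace Cfsg.Agent.SpFourCore.Standard

open Cfsg Cfsg.FusionSystem Cfsg.Agent.Fusion.Basic
open EvenLin

variable {K : Type*} [Field K] [CharP K 2] [Finite K]

/-- The hypotheses of the comparison. -/
structure Core (F : FusionSystem (⊤ : Subgroup (Syl K))) : Prop where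
  sat : F.IsSaturated 2
  long_A : ∀ α ∈ F.autGroup (Syl.subA : Subgroup (Syl K)), ∀ x : Syl K,
    x.IsLong → (autFun α x).IsLong
  long_B : ∀ α ∈ F.autGroup (Syl.subB : Subgroup (Syl K)), ∀ x : Syl K,
    x.IsLong → (autFun α x).IsLong
  move_A : Moves F Syl.subA
  move_B : Moves F Syl.subB

theorem Core.good {F : FusionSystem (⊤ : Subgroup (Syl K))} (hF : Core F) {θ : MulAut (Syl K)}
    (hθ : θ ∈ topAut F) : Good θ := by
  have hAB := topAut_subA_subB hF.sat hθ
  refine ⟨fun x hx => hAB.1 x hx, fun x hx => hAB.2 x hx, fun d => ?_, ?_⟩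
  · obtain ⟨α, hα, hαθ⟩ := exists_restrict hθ hAB.1
    rw [← hαθ _ (rfl : (⟨0, 0, 0, d⟩ : Syl K).a = 0)]
    exact (hF.long_A α hα _ ⟨rfl, rfl, rfl⟩).2.2
  · have : Finite (MulAut (Syl K)) :=
      Finite.of_injective (fun η : MulAut (Syl K) => (η : Syl K → Syl K)) DFunLike.coe_injective
    obtain ⟨i, m, hm, hord⟩ := Nat.exists_eq_two_pow_mul_odd (orderOf_pos θ).ne'
    exact ⟨m, hm, topAut_inner_of_pow (k := i) Syl.isPGroup hF.sat (Subgroup.pow_mem _ hθ m)
      (by rw [← pow_mul, mul_comm, ← hord, pow_orderOf_eq_one])⟩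

/-- Squares of an additive map. -/
def sqHom (f : K →+ K) : K →+ K :=
  AddMonoidHom.mk' (fun x => f x ^ 2) fun x y => by rw [map_add, CharTwo.add_sq]

/-- The normalising automorphism. -/
def phi (fA gA fB gB : K →+ K) : MulAut (Syl K) := shiftAut fA gA fB (sqHom gB)

theorem phi_sq (fA gA fB gB : K →+ K) : phi fA gA fB gB * phi fA gA fB gB = 1 := by
  nth_rewrite 1 [phi, ← shiftAut_inv]
  exact inv_mul_cancel _

theorem phi_phi (fA gA fB gB : K →+ K) (x : Syl K) : phi fA gA fB gB (phi fA gA fB gB x) = x := by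
  rw [← MulAut.mul_apply, phi_sq]; rfl

theorem phi_A (fA gA fB gB : K →+ K) (v : K × K × K) :
    phi fA gA fB gB (chartA.symm v : Syl K) = (chartA.symm (twist fA gA v) : Syl K) := by
  rw [phi, shiftAut_apply]
  ext <;> simp [chartA]

theorem phi_B (hp : ∀ x : K, x ^ 4 = x) (fA gA fB gB : K →+ K) (v : K × K × K) :
    phi fA gA fB gB ((chartB hp).symm v : Syl K) = ((chartB hp).symm (twist fB gB v) : Syl K) := by
  rw [phi, shiftAut_apply]
  ext <;> simp [chartB, sqHom, CharTwo.add_sq]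

theorem conj_phi (fA gA fB gB : K →+ K) (g : Syl K) :
    phi fA gA fB gB * MulAut.conj g * phi fA gA fB gB = MulAut.conj (phi fA gA fB gB g) :=
  MulEquiv.ext fun x => by
    rw [MulAut.mul_apply, MulAut.mul_apply, MulAut.conj_apply, MulAut.conj_apply, map_mul, map_mul,
      map_inv, phi_phi]

theorem Good.conj_phi {θ : MulAut (Syl K)} (h : Good θ) (fA gA fB gB : K →+ K) :
    Good (phi fA gA fB gB * θ * phi fA gA fB gB) := by
  refine ⟨fun x hx => ?_, fun x hx => ?_, fun d => ?_, ?_⟩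
  · exact h.memA _ hx
  · exact h.memB _ hx
  · rw [MulAut.mul_apply, MulAut.mul_apply,
      show phi fA gA fB gB ⟨0, 0, 0, d⟩ = (⟨0, 0, 0, d⟩ : Syl K) by
        ext <;> simp [phi, shiftAut_apply]]
    show (θ ⟨0, 0, 0, d⟩).c + fA (θ ⟨0, 0, 0, d⟩).b + fB (θ ⟨0, 0, 0, d⟩).a = 0
    rw [h.long d, h.memA _ rfl, h.memB _ rfl, map_zero, map_zero, add_zero, add_zero]
  · obtain ⟨m, hm, g, hg⟩ := h.inner
    refine ⟨m, hm, phi fA gA fB gB g, ?_⟩
    have hinv : (phi fA gA fB gB)⁻¹ = phi fA gA fB gB := shiftAut_inv _ _ _ _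
    have := conj_pow (i := m) (a := phi fA gA fB gB) (b := θ)
    rw [hinv] at this
    rw [this, hg, Standard.conj_phi]

/-- A diagonal element of the module. -/
def scale3 {x y z : K} (hx : x ≠ 0) (hy : y ≠ 0) (hz : z ≠ 0) : Equiv.Perm (K × K × K) where
  toFun v := (x * v.1, y * v.2.1, z * v.2.2)
  invFun v := (x⁻¹ * v.1, y⁻¹ * v.2.1, z⁻¹ * v.2.2)
  left_inv v := by simp [hx, hy, hz]
  right_inv v := by simp [hx, hy, hz]

@[simp] theorem scale3_apply {x y z : K} (hx : x ≠ 0) (hy : y ≠ 0) (hz : z ≠ 0) (v : K × K × K) :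
    scale3 hx hy hz v = (x * v.1, y * v.2.1, z * v.2.2) := rfl

/-- The action of a diagonal automorphism on `a = 0`. -/
def diagA {k l : K} (hk : k ≠ 0) (hl : l ≠ 0) : Equiv.Perm (K × K × K) :=
  scale3 hl (mul_ne_zero hk hl) (mul_ne_zero (pow_ne_zero 2 hk) hl)

/-- The action of a diagonal automorphism on `b = 0`. -/
def diagB {k l : K} (hk : k ≠ 0) (hl : l ≠ 0) : Equiv.Perm (K × K × K) :=
  scale3 hk (mul_ne_zero hk hl) (mul_ne_zero hk (pow_ne_zero 2 hl))

theorem diag_on_A {k l : K} (hk : k ≠ 0) (hl : l ≠ 0) (g : Syl K) (v : K × K × K) :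
    (MulAut.conj g * diagAut hk hl) (chartA.symm v : Syl K) =
      (chartA.symm ((shift g.a * diagA hk hl) v) : Syl K) := by
  rw [MulAut.mul_apply, diagAut_apply, MulAut.conj_apply, Syl.conj_eq]
  ext <;> simp [chartA, diagA, CharTwo.two_eq_zero]

theorem diag_on_B (hp : ∀ x : K, x ^ 4 = x) {k l : K} (hk : k ≠ 0) (hl : l ≠ 0) (g : Syl K)
    (v : K × K × K) :
    (MulAut.conj g * diagAut hk hl) ((chartB hp).symm v : Syl K) =
      ((chartB hp).symm ((shift g.b * diagB hk hl) v) : Syl K) := by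
  rw [MulAut.mul_apply, diagAut_apply, MulAut.conj_apply, Syl.conj_eq]
  refine Syl.ext (by simp [chartB, diagB]) (by simp [chartB]) ?_ ?_
  · simp [chartB, diagB, sub_eq_add_neg, CharTwo.neg_eq]; ring
  · simp [chartB, diagB, CharTwo.two_eq_zero, sub_eq_add_neg, CharTwo.neg_eq, CharTwo.add_sq]
    linear_combination -(k ^ 2 * v.2.2 ^ 2) * hp l - k ^ 2 * v.1 ^ 2 * hp g.b

/-- The standard automizer of one of the two subgroups. -/
def stdX (S : ∀ {k l : K}, k ≠ 0 → l ≠ 0 → Equiv.Perm (K × K × K)) (out : Prop) :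
    Subgroup (Equiv.Perm (K × K × K)) :=
  lifted K ⊔ Subgroup.closure {x | ∃ (k l : K) (hk : k ≠ 0) (hl : l ≠ 0), (k = l ∨ out) ∧ x = S hk hl}

/-- Some automorphism scales the two simple roots differently. -/
def OuterOf (F : FusionSystem (⊤ : Subgroup (Syl K))) : Prop :=
  ∃ θ ∈ topAut F, ∃ k l : K, k ≠ l ∧ ∀ x, (θ x).a = k * x.a ∧ (θ x).b = l * x.b

/-- The normal form. -/
structure IsForm (hp : ∀ x : K, x ^ 4 = x) (F : FusionSystem (⊤ : Subgroup (Syl K))) (out : Prop)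
    (fA gA fB gB : K →+ K) : Prop where
  top : ∀ θ, θ ∈ topAut F ↔ ∃ (g : Syl K) (k l : K) (hk : k ≠ 0) (hl : l ≠ 0), (k = l ∨ out) ∧
    phi fA gA fB gB * θ * phi fA gA fB gB = MulAut.conj g * diagAut hk hl
  imgA : twisted (autImage F chartA) fA gA = stdX (fun hk hl => diagA hk hl) out
  imgB : twisted (autImage F (chartB hp)) fB gB = stdX (fun hk hl => diagB hk hl) out

section

variable {P : Subgroup (Syl K)} [P.Normal] {e : P ≃ K × K × K} {r : Syl K → K}
  {F : FusionSystem (⊤ : Subgroup (Syl K))} {φ : MulAut (Syl K)} {f g : K →+ K}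

theorem exists_res (hφ : ∀ v, φ (e.symm v : Syl K) = (e.symm (twist f g v) : Syl K))
    {θ : MulAut (Syl K)} (hθ : θ ∈ topAut F) (hP : ∀ x ∈ P, θ x ∈ P) :
    ∃ x ∈ twisted (autImage F e) f g,
      ∀ v, (φ * θ * φ) (e.symm v : Syl K) = (e.symm (x v) : Syl K) := by
  obtain ⟨α, hα, hαθ⟩ := exists_restrict hθ hP
  refine ⟨twist f g * autPerm e α * twist f g, mem_twisted.2 ?_, fun v => ?_⟩
  · simp only [mul_assoc, twist_self, mul_one]
    rw [← mul_assoc, twist_self, one_mul]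
    exact ⟨α, hα, rfl⟩
  · rw [MulAut.mul_apply, MulAut.mul_apply, hφ, ← hαθ _ (SetLike.coe_mem _), autFun_apply,
      Equiv.Perm.mul_apply, Equiv.Perm.mul_apply, autPerm_apply, ← hφ, Equiv.symm_apply_apply]

theorem img_eq_stdX (hC : IsChart P e r)
    (hφ : ∀ v, φ (e.symm v : Syl K) = (e.symm (twist f g v) : Syl K)) (hφ2 : φ * φ = 1)
    {S : ∀ {k l : K}, k ≠ 0 → l ≠ 0 → Equiv.Perm (K × K × K)}
    (hS : ∀ {k l : K} (hk : k ≠ 0) (hl : l ≠ 0) (h : Syl K) (v : K × K × K),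
      (MulAut.conj h * diagAut hk hl) (e.symm v : Syl K) = (e.symm ((shift (r h) * S hk hl) v) : Syl K))
    (hinv : ∀ θ ∈ topAut F, ∀ x ∈ P, θ x ∈ P) {out : Prop}
    (htop : ∀ θ, θ ∈ topAut F ↔ ∃ (h : Syl K) (k l : K) (hk : k ≠ 0) (hl : l ≠ 0), (k = l ∨ out) ∧
      φ * θ * φ = MulAut.conj h * diagAut hk hl)
    (hle : lifted K ≤ twisted (autImage F e) f g)
    (hfra : ∀ x ∈ twisted (autImage F e) f g, ∃ l ∈ lifted K, ∃ θ ∈ topAut F,
        ∀ v, θ (e.symm v : Syl K) = (e.symm ((twist f g * (l⁻¹ * x) * twist f g) v) : Syl K)) :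
    twisted (autImage F e) f g = stdX S out := by
  have hφφ : ∀ x, φ (φ x) = x := fun x => by rw [← MulAut.mul_apply, hφ2]; rfl
  refine le_antisymm (fun x hx => ?_) (sup_le hle ((Subgroup.closure_le _).2 ?_))
  · obtain ⟨l, hl, θ, hθ, hθe⟩ := hfra x hx
    obtain ⟨h, k, k', hk, hk', hkk, heq⟩ := (htop θ).1 hθ
    have e1 : l⁻¹ * x = shift (r h) * S hk hk' := Equiv.ext fun v => by
      have e2 : (φ * θ * φ) (e.symm v : Syl K) = (e.symm ((l⁻¹ * x) v) : Syl K) := by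
        rw [MulAut.mul_apply, MulAut.mul_apply, hφ, hθe, Equiv.Perm.mul_apply, Equiv.Perm.mul_apply,
          ← hφ, hφφ, twist_cancel]
      rw [heq, hS] at e2
      exact e.symm.injective (Subtype.ext e2.symm)
    rw [show x = l * (l⁻¹ * x) by group, e1]
    exact mul_mem (Subgroup.mem_sup_left hl) (mul_mem (Subgroup.mem_sup_left (shift_mem_lifted _))
      (Subgroup.mem_sup_right (Subgroup.subset_closure ⟨k, k', hk, hk', hkk, rfl⟩)))
  · rintro _ ⟨k, l, hk, hl, hkl, rfl⟩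
    have e0 : φ * (φ * diagAut hk hl * φ) * φ = MulAut.conj (1 : Syl K) * diagAut hk hl := by
      simp only [mul_assoc, hφ2, mul_one, _root_.map_one, one_mul]
      rw [← mul_assoc, hφ2, one_mul]
    have hθ : φ * diagAut hk hl * φ ∈ topAut F := (htop _).2 ⟨1, k, l, hk, hl, hkl, e0⟩
    obtain ⟨y, hy, hye⟩ := exists_res hφ hθ (hinv _ hθ)
    obtain ⟨g₀, hg₀⟩ := hC.surj 0
    have e1 : y = shift (r 1) * S hk hl := Equiv.ext fun v => by
      have := hye v
      rw [e0, hS] at this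
      exact e.symm.injective (Subtype.ext this.symm)
    have h1 : shift (r 1) ∈ twisted (autImage F e) f g := hle (shift_mem_lifted _)
    have h2 := mul_mem (inv_mem h1) hy
    rwa [e1, inv_mul_cancel_left] at h2

end

/-- **The normal form.** -/
theorem Core.exists_form (hp : ∀ x : K, x ^ 4 = x) {F : FusionSystem (⊤ : Subgroup (Syl K))}
    (hF : Core F) : ∃ fA gA fB gB, IsForm hp F (OuterOf F) fA gA fB gB := by
  have hinvA : ∀ θ ∈ topAut F, ∀ x ∈ (Syl.subA : Subgroup (Syl K)), θ x ∈ Syl.subA :=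
    fun θ hθ => (topAut_subA_subB hF.sat hθ).1
  have hinvB : ∀ θ ∈ topAut F, ∀ x ∈ (Syl.subB : Subgroup (Syl K)), θ x ∈ Syl.subB :=
    fun θ hθ => (topAut_subA_subB hF.sat hθ).2
  obtain ⟨fA, gA, hrA, hleA, hnA, hfrA, hextA⟩ :=
    isChartA.exists_side hF.sat hF.long_A hF.move_A
  obtain ⟨fB, gB, hrB, hleB, hnB, hfrB, -⟩ :=
    (isChartB hp).exists_side hF.sat hF.long_B hF.move_B
  set φ := phi fA gA fB gB with hφdef
  have hφ2 : φ * φ = 1 := phi_sq _ _ _ _
  have hφA := phi_A fA gA fB gB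
  have hφB := phi_B hp fA gA fB gB
  have hinj : LiftInj K := fun y hy z hz h =>
    hrA.inj y (hleA hy) z (hleA hz) (lifted_props hy).1 (lifted_props hz).1 h
  have hsplit : ∀ θ ∈ topAut F, ∃ (g : Syl K) (k l : K) (hk : k ≠ 0) (hl : l ≠ 0),
      φ * θ * φ = MulAut.conj g * diagAut hk hl := by
    intro θ hθ
    obtain ⟨xA, hxA, heA⟩ := exists_res hφA hθ (hinvA θ hθ)
    obtain ⟨xB, hxB, heB⟩ := exists_res hφB hθ (hinvB θ hθ)
    exact ((hF.good hθ).conj_phi fA gA fB gB).exists_conj_diag hp hinj heA heB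
      (hnA _ hxA _ swap3_mem_lifted) (hnB _ hxB _ swap3_mem_lifted)
  have hconj : ∀ g : Syl K, φ * MulAut.conj g * φ = MulAut.conj (φ g) := conj_phi fA gA fB gB
  -- the diagonal part
  let Λ : K → K → Prop := fun k l =>
    ∃ (hk : k ≠ 0) (hl : l ≠ 0), φ * diagAut hk hl * φ ∈ topAut F
  have hΛ : ∀ θ ∈ topAut F, ∀ (g : Syl K) (k l : K) (hk : k ≠ 0) (hl : l ≠ 0),
      φ * θ * φ = MulAut.conj g * diagAut hk hl → Λ k l := by
    intro θ hθ g k l hk hl he
    refine ⟨hk, hl, ?_⟩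
    have e : φ * diagAut hk hl * φ = (MulAut.conj (φ g))⁻¹ * θ := by
      rw [eq_inv_mul_iff_mul_eq, ← hconj g,
        show φ * MulAut.conj g * φ * (φ * diagAut hk hl * φ) =
          φ * (MulAut.conj g * ((φ * φ) * diagAut hk hl)) * φ by simp only [mul_assoc],
        hφ2, one_mul, ← he]
      simp only [mul_assoc, hφ2, mul_one]
      rw [← mul_assoc, hφ2, one_mul]
    rw [e]
    exact mul_mem (inv_mem (conj_mem_topAut _)) hθ
  have hmul : ∀ k l k' l', Λ k l → Λ k' l' → Λ (k * k') (l * l') := by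
    rintro k l k' l' ⟨hk, hl, h1⟩ ⟨hk', hl', h2⟩
    refine ⟨mul_ne_zero hk hk', mul_ne_zero hl hl', ?_⟩
    have := mul_mem h1 h2
    rw [show φ * diagAut hk hl * φ * (φ * diagAut hk' hl' * φ) =
      φ * (diagAut hk hl * ((φ * φ) * diagAut hk' hl')) * φ by simp only [mul_assoc], hφ2, one_mul,
      diagAut_mul] at this
    exact this
  have hdiag : ∀ k : K, k ≠ 0 → Λ k k := by
    intro k hk
    have hk3 : k ^ 3 = 1 := pow_three' hp hk
    let T := weylD k * weylD (1 : K)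
    have hTv : ∀ v : K × K × K, T v = (k * v.1, k⁻¹ * v.2.1, v.2.2) := fun v => by
      rw [Equiv.Perm.mul_apply, weylD_apply hk3, weylD_apply (one_pow 3)]
      simp
    have hTs : ∀ a, ∃ b, T * shift a * T⁻¹ = shift b := fun a => ⟨k * a, by
      rw [mul_inv_eq_iff_eq_mul]
      refine Equiv.ext fun v => ?_
      simp only [Equiv.Perm.mul_apply, hTv, shift_apply]
      refine Prod.ext rfl (Prod.ext ?_ ?_)
      · show k⁻¹ * (v.2.1 + a * v.1) = k⁻¹ * v.2.1 + k * a * (k * v.1)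
        field_simp
        linear_combination -(a * v.1) * hk3
      · show v.2.2 + a ^ 2 * v.1 = v.2.2 + (k * a) ^ 2 * (k * v.1)
        linear_combination -(a ^ 2 * v.1) * hk3⟩
    obtain ⟨θ, hθ, hθe⟩ := hextA T (hleA (mul_mem (weylD_mem_lifted _) (weylD_mem_lifted _))) hTs
    obtain ⟨g, k', l', hk', hl', he⟩ := hsplit θ hθ
    have hv : ∀ v, (shift g.a * diagA hk' hl') v = T v := fun v => by
      have e2 : (φ * θ * φ) (chartA.symm v : Syl K) = (chartA.symm (T v) : Syl K) := by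
        rw [MulAut.mul_apply, MulAut.mul_apply, hφA, hθe, Equiv.Perm.mul_apply, Equiv.Perm.mul_apply,
          ← hφA, phi_phi, twist_cancel]
      rw [he, diag_on_A] at e2
      exact chartA.symm.injective (Subtype.ext e2)
    have h1 := congrArg Prod.fst (hv (1, 0, 0))
    have h2 := congrArg (fun t : K × K × K => t.2.1) (hv (0, 1, 0))
    simp [hTv, diagA] at h1 h2
    have hk'k : k' = k := by
      have h2' : k' * k = k⁻¹ := by rw [← h2, h1]
      field_simp at h2'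
      linear_combination k * h2' - k' * hk3
    have := hΛ θ hθ g k' l' hk' hl' he
    rwa [hk'k, h1] at this
  have hout : OuterOf F → ∀ k l : K, k ≠ 0 → l ≠ 0 → Λ k l := by
    rintro ⟨θ, hθ, k₀, l₀, hne, hcoord⟩ k l hk hl
    obtain ⟨g, k', l', hk', hl', he⟩ := hsplit θ hθ
    have h1 := congrArg (fun η : MulAut (Syl K) => ((η ⟨1, 1, 0, 0⟩).a, (η ⟨1, 1, 0, 0⟩).b)) he
    simp only [MulAut.mul_apply, diagAut_apply, MulAut.conj_apply, Syl.conj_eq, mul_one] at h1
    have ha : k₀ = k' ∧ l₀ = l' := by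
      have e1 := hcoord (φ ⟨1, 1, 0, 0⟩)
      have e2 : (φ (θ (φ ⟨1, 1, 0, 0⟩))).a = (θ (φ ⟨1, 1, 0, 0⟩)).a ∧
          (φ (θ (φ ⟨1, 1, 0, 0⟩))).b = (θ (φ ⟨1, 1, 0, 0⟩)).b := ⟨rfl, rfl⟩
      rw [Prod.mk.injEq, e2.1, e2.2, e1.1, e1.2] at h1
      refine ⟨?_, ?_⟩
      · simpa [φ, phi, shiftAut_apply] using h1.1
      · simpa [φ, phi, shiftAut_apply] using h1.2
    have h0 := hΛ θ hθ g k' l' hk' hl' he
    rw [← ha.1, ← ha.2] at h0
    have hr := hmul _ _ _ _ h0 (hdiag l₀⁻¹ (inv_ne_zero (ha.2 ▸ hl')))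
    rw [mul_inv_cancel₀ (ha.2 ▸ hl')] at hr
    have hr0 : k₀ * l₀⁻¹ ≠ 0 := hr.1
    have hr1 : k₀ * l₀⁻¹ ≠ 1 := fun e => hne ((mul_inv_eq_one₀ (ha.2 ▸ hl')).1 e)
    have hq : Λ (k / l) 1 := by
      rcases cases_of_ne hp (x := k / l) hr0 hr1 with e | e | e | e
      · exact absurd e (div_ne_zero hk hl)
      · rw [e]; exact hdiag 1 one_ne_zero
      · rw [e]; exact hr
      · rw [e, pow_two]; simpa using hmul _ _ _ _ hr hr
    have := hmul _ _ _ _ hq (hdiag l hl)
    rwa [div_mul_cancel₀ _ hl, one_mul] at this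
  have htop : ∀ θ, θ ∈ topAut F ↔ ∃ (g : Syl K) (k l : K) (hk : k ≠ 0) (hl : l ≠ 0),
      (k = l ∨ OuterOf F) ∧ φ * θ * φ = MulAut.conj g * diagAut hk hl := by
    intro θ
    constructor
    · intro hθ
      obtain ⟨g, k, l, hk, hl, he⟩ := hsplit θ hθ
      refine ⟨g, k, l, hk, hl, or_iff_not_imp_left.2 fun hne => ⟨θ, hθ, k, l, hne, fun x => ?_⟩, he⟩
      have h1 := congrArg (fun η : MulAut (Syl K) => ((η (φ x)).a, (η (φ x)).b)) he
      simp only [MulAut.mul_apply, hφdef, phi_phi, diagAut_apply, MulAut.conj_apply, Syl.conj_eq,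
        Prod.mk.injEq] at h1
      exact h1
    · rintro ⟨g, k, l, hk, hl, hkl, he⟩
      have hmem : Λ k l := by
        rcases hkl with e | e
        · exact e ▸ hdiag k hk
        · exact hout e k l hk hl
      have e : θ = MulAut.conj (φ g) * (φ * diagAut hk hl * φ) := by
        rw [← hconj g, show φ * MulAut.conj g * φ * (φ * diagAut hk hl * φ) =
            φ * (MulAut.conj g * ((φ * φ) * diagAut hk hl)) * φ by simp only [mul_assoc],
          hφ2, one_mul, ← he]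
        simp only [mul_assoc, hφ2, mul_one]
        rw [← mul_assoc, hφ2, one_mul]
      rw [e]
      exact mul_mem (conj_mem_topAut _) hmem.2.2
  exact ⟨fA, gA, fB, gB, htop,
    img_eq_stdX isChartA hφA hφ2 (fun hk hl => diag_on_A hk hl) hinvA htop hleA hfrA,
    img_eq_stdX (isChartB hp) hφB hφ2 (fun hk hl => diag_on_B hp hk hl) hinvB htop hleB hfrB⟩

end Cfsg.Agent.SpFourCore.Standard
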