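import Cfsg.Agent.Lib.Fusion.RankTwoSystems.Frame
import Cfsg.Agent.Lib.SpFourCore.Groups
import Cfsg.Agent.Lib.SpFourCore.Standard.Form

/-!
# The system of a group on `Syl K`
-/

set_option autoImplicit false
set_option linter.unusedSectionVars false

namespace Cfsg.Agent.SpFourCore.Standard

open Cfsg Cfsg.FusionSystem Cfsg.Agent.Fusion.Basic Cfsg.Agent.Fusion.RankTwoSystems

universe u

variable {K : Type u} [Field K] [CharP K 2] [Finite K]
variable {G : Type} [Group G] [Finite G]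

/-- The identification of the Sylow subgroup with `Syl K`. -/
noncomputable def sylEquiv {ι : Syl K →* G} (hι : Function.Injective ι) {T : Sylow 2 G}
    (hT : (T : Subgroup G) = ι.range) : (T : Subgroup G) ≃* (⊤ : Subgroup (Syl K)) :=
  ((MulEquiv.subgroupCongr hT).trans (MonoidHom.ofInjective hι).symm).trans Subgroup.topEquiv.symm

theorem pos_sylEquiv {ι : Syl K →* G} (hι : Function.Injective ι) {T : Sylow 2 G}
    (hT : (T : Subgroup G) = ι.range) (x : Syl K) : pos (sylEquiv hι hT) x = ι x := by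
  rw [show x = ((⟨x, Subgroup.mem_top x⟩ : (⊤ : Subgroup (Syl K))) : Syl K) from rfl, pos_eq]
  simp [sylEquiv]
  rfl

/-- The system of `G`. -/
noncomputable def gSys {ι : Syl K →* G} (hι : Function.Injective ι) {T : Sylow 2 G}
    (hT : (T : Subgroup G) = ι.range) : FusionSystem (⊤ : Subgroup (Syl K)) :=
  sysOf (sylEquiv hι hT)

variable {ι : Syl K →* G} (hι : Function.Injective ι) {T : Sylow 2 G} (hT : (T : Subgroup G) = ι.range)

theorem isMap_gSys {P : Subgroup (Syl K)} {f : Syl K → Syl K} :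
    IsMap (gSys hι hT) P f ↔ ∃ g : G, ∀ x ∈ P, ι (f x) = g * ι x * g⁻¹ := by
  rw [gSys, isMap_sysOf_iff]
  simp [pos_sylEquiv]

theorem mem_autGroup_gSys {P : Subgroup (Syl K)} {α : MulAut P} :
    α ∈ (gSys hι hT).autGroup P ↔ ∃ g : G, ∀ x : P, ι (α x : Syl K) = g * ι x * g⁻¹ := by
  rw [mem_autGroup_iff le_top, isMap_gSys]
  refine exists_congr fun g => ⟨fun h x => ?_, fun h x hx => ?_⟩
  · rw [← autFun_apply]; exact h x x.2
  · rw [autFun_of_mem α hx]; exact h ⟨x, hx⟩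

theorem mem_topAut_gSys {θ : MulAut (Syl K)} :
    θ ∈ topAut (gSys hι hT) ↔ ∃ g : G, ∀ x, ι (θ x) = g * ι x * g⁻¹ := by
  rw [mem_topAut, isMap_gSys]
  simp

theorem moves_gSys {P : Subgroup (Syl K)} (hP : (⟨0, 0, 1, 0⟩ : Syl K) ∈ P) {g : G}
    (hg : g ∈ Subgroup.normalizer ((P.map ι : Subgroup G) : Set G)) {y : Syl K}
    (hy : g * ι ⟨0, 0, 1, 0⟩ * g⁻¹ = ι y) (hne : ¬ (y.a = 0 ∧ y.b = 0)) :
    Moves (gSys hι hT) P := by
  classical
  have hmem : ∀ x ∈ P, ∃ z ∈ P, ι z = g * ι x * g⁻¹ := fun x hx =>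
    ((Subgroup.mem_normalizer_iff.1 hg (ι x)).1 ⟨x, hx, rfl⟩)
  choose! F hF using hmem
  have hm : IsMap (gSys hι hT) P F := (isMap_gSys hι hT).2 ⟨g, fun x hx => (hF x hx).2⟩
  obtain ⟨α, hα, hαF⟩ := hm.exists_aut (Fusion.Saturation.eq_of_le_card
    (img_le fun x hx => (hF x hx).1) hm.card_img.ge)
  refine ⟨α, hα, _, hP, rfl, rfl, ?_⟩
  rw [hαF _ hP, show F ⟨0, 0, 1, 0⟩ = y from hι ((hF _ hP).2.trans hy)]
  exact hne

theorem core_gSys (hd : ∀ g : G, ∀ d : K, ∃ d', g * ι ⟨0, 0, 0, d⟩ * g⁻¹ = ι ⟨0, 0, 0, d'⟩)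
    (hA : ∃ g ∈ Subgroup.normalizer ((Syl.subA.map ι : Subgroup G) : Set G), ∃ y : Syl K,
      g * ι ⟨0, 0, 1, 0⟩ * g⁻¹ = ι y ∧ y.b ≠ 0)
    (hB : ∃ g ∈ Subgroup.normalizer ((Syl.subB.map ι : Subgroup G) : Set G), ∃ y : Syl K,
      g * ι ⟨0, 0, 1, 0⟩ * g⁻¹ = ι y ∧ y.a ≠ 0) :
    Core (gSys hι hT) := by
  have hlong : ∀ P : Subgroup (Syl K), (∀ d, (⟨0, 0, 0, d⟩ : Syl K) ∈ P) →
      ∀ α ∈ (gSys hι hT).autGroup P, ∀ x : Syl K, x.IsLong → (autFun α x).IsLong := by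
    intro P hP α hα x hx
    obtain ⟨g, hg⟩ := (mem_autGroup_gSys hι hT).1 hα
    have e : x = ⟨0, 0, 0, x.d⟩ := Syl.ext hx.1 hx.2.1 hx.2.2 rfl
    rw [e, autFun_of_mem α (hP _)]
    obtain ⟨d', hd'⟩ := hd g x.d
    rw [hι ((hg ⟨_, hP _⟩).trans hd')]
    exact ⟨rfl, rfl, rfl⟩
  obtain ⟨g, hg, y, hy, hne⟩ := hA
  obtain ⟨g', hg', y', hy', hne'⟩ := hB
  exact ⟨sysOf_saturated _, hlong _ fun d => rfl, hlong _ fun d => rfl,
    moves_gSys hι hT (show (⟨0, 0, 1, 0⟩ : Syl K) ∈ Syl.subA from rfl) hg hy fun h => hne h.2,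
    moves_gSys hι hT (show (⟨0, 0, 1, 0⟩ : Syl K) ∈ Syl.subB from rfl) hg' hy' fun h => hne' h.1⟩

/-- The automizer of the system of a twisted embedding. -/
theorem mem_autImage_comp {V : Type*} {P : Subgroup (Syl K)} (e : P ≃ V) (ψ : MulAut (Syl K))
    (t : Equiv.Perm V) (hψ : ∀ v, ψ (e.symm v : Syl K) = (e.symm (t v) : Syl K))
    {ι' : Syl K →* G} (hι' : Function.Injective ι') (hι'e : ∀ x, ι' x = ι (ψ x))
    (hT' : (T : Subgroup G) = ι'.range) {x : Equiv.Perm V}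
    (hx : x ∈ autImage (gSys hι' hT') e) : t * x * t⁻¹ ∈ autImage (gSys hι hT) e := by
  obtain ⟨α, hα, rfl⟩ := hx
  obtain ⟨g, hg⟩ := (mem_autGroup_gSys hι' hT').1 hα
  have hP : ∀ z : P, ψ z ∈ P := fun z => by
    rw [← e.symm_apply_apply z, hψ]
    exact SetLike.coe_mem _
  have hP' : ∀ z : P, ψ⁻¹ z ∈ P := fun z => by
    have : ψ (e.symm (t⁻¹ (e z)) : Syl K) = z := by
      rw [hψ, show t (t⁻¹ (e z)) = e z from t.apply_symm_apply _, e.symm_apply_apply]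
    conv => arg 2; rw [← this]
    rw [MulAut.inv_apply, ψ.symm_apply_apply]
    exact SetLike.coe_mem _
  let β : MulAut P :=
    { toFun := fun z => ⟨ψ (α ⟨ψ⁻¹ z, hP' z⟩ : Syl K), hP _⟩
      invFun := fun z => ⟨ψ (α.symm ⟨ψ⁻¹ z, hP' z⟩ : Syl K), hP _⟩
      left_inv := fun z => Subtype.ext (by simp)
      right_inv := fun z => Subtype.ext (by simp)
      map_mul' := fun y z => Subtype.ext (by
        show ψ _ = ψ _ * ψ _
        rw [← map_mul, ← Subgroup.coe_mul, ← map_mul α]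
        congr 3
        exact Subtype.ext (map_mul _ _ _)) }
  refine ⟨β, (mem_autGroup_gSys hι hT).2 ⟨g, fun z => ?_⟩, Equiv.ext fun v => e.symm.injective ?_⟩
  · show ι (ψ (α ⟨ψ⁻¹ z, hP' z⟩ : Syl K)) = _
    rw [← hι'e, hg ⟨ψ⁻¹ z, hP' z⟩, hι'e]
    simp
  · refine Subtype.ext ?_
    rw [autPerm_apply, Equiv.symm_apply_apply, Equiv.Perm.mul_apply, Equiv.Perm.mul_apply, ← hψ,
      autPerm_apply, Equiv.symm_apply_apply]
    show ψ (α ⟨ψ⁻¹ (e.symm v : Syl K), _⟩ : Syl K) = _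
    congr 3
    refine Subtype.ext ?_
    show ψ⁻¹ (e.symm v : Syl K) = (e.symm (t⁻¹ v) : Syl K)
    rw [MulAut.inv_apply, MulEquiv.symm_apply_eq, hψ, show t (t⁻¹ v) = v from t.apply_symm_apply v]

theorem mem_topAut_comp (ψ : MulAut (Syl K)) {ι' : Syl K →* G} (hι' : Function.Injective ι')
    (hι'e : ∀ x, ι' x = ι (ψ x)) (hT' : (T : Subgroup G) = ι'.range) {θ : MulAut (Syl K)} :
    θ ∈ topAut (gSys hι' hT') ↔ ψ * θ * ψ⁻¹ ∈ topAut (gSys hι hT) := by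
  rw [mem_topAut_gSys, mem_topAut_gSys]
  refine exists_congr fun g => ⟨fun h x => ?_, fun h x => ?_⟩
  · rw [MulAut.mul_apply, MulAut.mul_apply, ← hι'e, h, hι'e, MulAut.inv_apply, ψ.apply_symm_apply]
  · have := h (ψ x)
    rw [MulAut.mul_apply, MulAut.mul_apply, MulAut.inv_apply, ψ.symm_apply_apply] at this
    rw [hι'e, hι'e, this]

end Cfsg.Agent.SpFourCore.Standard
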