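import Cfsg.Agent.Lib.SpFourCore.EvenLin

/-!
# The lifted `SL₂(K)` in the automizer of an elementary abelian subgroup

After a shear of the module the automizer contains the standard lift of `SL₂(K)`, normally.
-/

set_option autoImplicit false
set_option linter.unusedSectionVars false

namespace Cfsg.Agent.SpFourCore.Standard

open EvenLin

variable {K : Type*} [Field K] [CharP K 2]

theorem add_self (x : K) : x + x = 0 := CharTwo.add_self_eq_zero x

/-- the plane part -/
def pr (v : K × K × K) : K × K := (v.1, v.2.1)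

/-- A shear of the module, an involution. -/
def twist (f g : K →+ K) : Equiv.Perm (K × K × K) where
  toFun v := (v.1, v.2.1 + f v.1, v.2.2 + g v.1)
  invFun v := (v.1, v.2.1 + f v.1, v.2.2 + g v.1)
  left_inv v := by simp [add_assoc, add_self]
  right_inv v := by simp [add_assoc, add_self]

@[simp] theorem twist_apply (f g : K →+ K) (v : K × K × K) :
    twist f g v = (v.1, v.2.1 + f v.1, v.2.2 + g v.1) := rfl

theorem twist_inv (f g : K →+ K) : (twist f g)⁻¹ = twist f g := rfl

theorem twist_mul (f g f' g' : K →+ K) : twist f g * twist f' g' = twist (f + f') (g + g') :=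
  Equiv.ext fun v => by simp [Equiv.Perm.mul_apply]; constructor <;> abel

theorem twist_shift (f g : K →+ K) (a : K) : twist f g * shift a = shift a * twist f g :=
  Equiv.ext fun v => by simp [Equiv.Perm.mul_apply]; constructor <;> abel

/-- The standard Weyl element. -/
def swap3 : Equiv.Perm (K × K × K) where
  toFun v := (v.2.1, v.1, v.2.2)
  invFun v := (v.2.1, v.1, v.2.2)
  left_inv _ := rfl
  right_inv _ := rfl

@[simp] theorem swap3_apply (v : K × K × K) : swap3 v = (v.2.1, v.1, v.2.2) := rfl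

/-- The standard lower root group. -/
def low3 (c : K) : Equiv.Perm (K × K × K) := swap3 * shift c * swap3

theorem low3_apply (c : K) (v : K × K × K) :
    low3 c v = (v.1 + c * v.2.1, v.2.1, v.2.2 + c ^ 2 * v.2.1) := rfl

variable (K) in
/-- The standard lift of `SL₂(K)`. -/
def lifted : Subgroup (Equiv.Perm (K × K × K)) :=
  Subgroup.closure (Set.range shift ∪ {swap3})

theorem shift_mem_lifted (a : K) : shift a ∈ lifted K := Subgroup.subset_closure (Or.inl ⟨a, rfl⟩)

theorem swap3_mem_lifted : swap3 ∈ lifted K := Subgroup.subset_closure (Or.inr rfl)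

theorem low3_mem_lifted (c : K) : low3 c ∈ lifted K :=
  mul_mem (mul_mem swap3_mem_lifted (shift_mem_lifted c)) swap3_mem_lifted

/-- A monomial element. -/
def weylD (k : K) : Equiv.Perm (K × K × K) := low3 k * shift k⁻¹ * low3 k

theorem weylD_mem_lifted (k : K) : weylD k ∈ lifted K :=
  mul_mem (mul_mem (low3_mem_lifted k) (shift_mem_lifted _)) (low3_mem_lifted k)

theorem weylD_apply {k : K} (hk : k ^ 3 = 1) (v : K × K × K) :
    weylD k v = (k * v.2.1, k⁻¹ * v.1, v.2.2) := by
  have hk0 : k ≠ 0 := fun h => by simp [h] at hk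
  obtain ⟨x, y, d⟩ := v
  show low3 k (shift k⁻¹ (low3 k (x, y, d))) = _
  simp only [low3_apply, shift_apply]
  refine Prod.ext ?_ (Prod.ext ?_ ?_)
  · show x + k * y + k * (y + k⁻¹ * (x + k * y)) = k * y
    field_simp
    linear_combination add_self x + (k * add_self y)
  · show y + k⁻¹ * (x + k * y) = k⁻¹ * x
    field_simp
    linear_combination k * add_self y
  · show d + k ^ 2 * y + k⁻¹ ^ 2 * (x + k * y) + k ^ 2 * (y + k⁻¹ * (x + k * y)) = d
    field_simp
    linear_combination (x + k * y) * hk + k ^ 4 * add_self y + (x + k * y) * add_self (1 : K)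

theorem swap3_eq : (swap3 : Equiv.Perm (K × K × K)) = low3 1 * shift 1 * low3 1 := by
  refine Equiv.ext fun v => ?_
  have h := weylD_apply (k := (1 : K)) (one_pow 3) v
  rw [weylD, inv_one, one_mul, one_mul] at h
  rw [h]; rfl

/-- fixing the long axis pointwise -/
def FixD (x : Equiv.Perm (K × K × K)) : Prop := ∀ d : K, x (0, 0, d) = (0, 0, d)

/-- the plane part is `l` -/
def Over (x : Equiv.Perm (K × K × K)) (l : Equiv.Perm (K × K)) : Prop := ∀ v, pr (x v) = l (pr v)

theorem FixD.mul {x y : Equiv.Perm (K × K × K)} (hx : FixD x) (hy : FixD y) : FixD (x * y) :=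
  fun d => by rw [Equiv.Perm.mul_apply, hy, hx]

theorem FixD.inv {x : Equiv.Perm (K × K × K)} (hx : FixD x) : FixD x⁻¹ := fun d => by
  rw [← hx d]; exact (x.symm_apply_apply _).trans (hx d).symm

theorem Over.mul {x y : Equiv.Perm (K × K × K)} {l m : Equiv.Perm (K × K)} (hx : Over x l)
    (hy : Over y m) : Over (x * y) (l * m) := fun v => by
  rw [Equiv.Perm.mul_apply, hx, hy]; rfl

theorem Over.inv {x : Equiv.Perm (K × K × K)} {l : Equiv.Perm (K × K)} (hx : Over x l) :
    Over x⁻¹ l⁻¹ := fun v => by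
  refine l.injective ?_
  rw [← hx, show x (x⁻¹ v) = v from x.apply_symm_apply v,
    show l (l⁻¹ (pr v)) = pr v from l.apply_symm_apply _]

theorem fixD_shift (a : K) : FixD (shift a) := fun d => by simp

theorem fixD_swap3 : FixD (swap3 : Equiv.Perm (K × K × K)) := fun d => rfl

theorem over_shift (a : K) : Over (shift a) (Spread.upp a) := fun _ => rfl

theorem lowS_zero (c : K) : Spread.lowS (0 : K →+ K) c = Spread.low c :=
  Equiv.ext fun v => by simp [Spread.lowS_apply]

theorem over_low3 (c : K) : Over (low3 c) (Spread.lowS 0 c) := fun v => by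
  rw [lowS_zero]; rfl

theorem over_swap3 : Over (swap3 : Equiv.Perm (K × K × K)) (Spread.weyl 0 1) := fun v => by
  rw [Spread.weyl_apply _ one_ne_zero]
  simp [pr, CharTwo.neg_eq]

theorem lifted_props {x : Equiv.Perm (K × K × K)} (hx : x ∈ lifted K) :
    FixD x ∧ ∃ l ∈ Spread.sl (0 : K →+ K), Over x l := by
  induction hx using Subgroup.closure_induction with
  | mem y hy =>
    rcases hy with ⟨a, rfl⟩ | rfl
    · exact ⟨fixD_shift a, _, Spread.upp_mem_sl _ a, over_shift a⟩
    · exact ⟨fixD_swap3, _, Spread.weyl_mem_sl _ 1, over_swap3⟩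
  | one => exact ⟨fun _ => rfl, 1, one_mem _, fun _ => rfl⟩
  | mul y z _ _ hy hz =>
    obtain ⟨h1, l, hl, h2⟩ := hy
    obtain ⟨h3, m, hm, h4⟩ := hz
    exact ⟨h1.mul h3, _, mul_mem hl hm, h2.mul h4⟩
  | inv y _ hy =>
    obtain ⟨h1, l, hl, h2⟩ := hy
    exact ⟨h1.inv, _, inv_mem hl, h2.inv⟩

theorem exists_over {l : Equiv.Perm (K × K)} (hl : l ∈ Spread.sl (0 : K →+ K)) :
    ∃ x ∈ lifted K, Over x l := by
  induction hl using Subgroup.closure_induction with
  | mem y hy =>
    rcases hy with ⟨a, rfl⟩ | ⟨c, rfl⟩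
    · exact ⟨_, shift_mem_lifted a, over_shift a⟩
    · exact ⟨_, low3_mem_lifted c, over_low3 c⟩
  | one => exact ⟨1, one_mem _, fun _ => rfl⟩
  | mul y z _ _ hy hz =>
    obtain ⟨a, ha, h1⟩ := hy
    obtain ⟨b, hb, h2⟩ := hz
    exact ⟨_, mul_mem ha hb, h1.mul h2⟩
  | inv y _ hy =>
    obtain ⟨a, ha, h1⟩ := hy
    exact ⟨_, inv_mem ha, h1.inv⟩

/-- The plane part of the standard lift is linear. -/
theorem sl_linear {l : Equiv.Perm (K × K)} (hl : l ∈ Spread.sl (0 : K →+ K)) (c : K) (v : K × K) :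
    l (c * v.1, c * v.2) = (c * (l v).1, c * (l v).2) := by
  revert v
  induction hl using Subgroup.closure_induction with
  | mem y hy =>
    intro v
    rcases hy with ⟨a, rfl⟩ | ⟨a, rfl⟩
    · ext <;> simp; ring
    · rw [lowS_zero]
      ext <;> simp; ring
  | one => exact fun v => rfl
  | mul y z _ _ hy hz =>
    intro v
    rw [Equiv.Perm.mul_apply, Equiv.Perm.mul_apply, hz, hy]
  | inv y _ hy =>
    intro v
    refine y.injective ?_
    rw [hy, show y (y⁻¹ (c * v.1, c * v.2)) = _ from y.apply_symm_apply _,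
      show y (y⁻¹ v) = v from y.apply_symm_apply _]

theorem shear_self (φ : K →+ K) : (Spread.shear φ)⁻¹ = Spread.shear φ := Equiv.ext fun v => by
  rw [Spread.shear_inv_apply, Spread.shear_apply, sub_eq_add_neg, CharTwo.neg_eq]

theorem conj_sl (φ : K →+ K) {l : Equiv.Perm (K × K)} (hl : l ∈ Spread.sl φ) :
    Spread.shear φ * l * Spread.shear φ ∈ Spread.sl (0 : K →+ K) := by
  have h : Spread.sl φ ≤ (Spread.sl (0 : K →+ K)).comap
      (MulAut.conj (Spread.shear φ)).toMonoidHom := by
    rw [Spread.sl, Subgroup.closure_le]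
    rintro _ (⟨a, rfl⟩ | ⟨c, rfl⟩)
    · rw [SetLike.mem_coe, Subgroup.mem_comap]
      show Spread.shear φ * Spread.upp a * (Spread.shear φ)⁻¹ ∈ Spread.sl (0 : K →+ K)
      convert Spread.upp_mem_sl _ a
      refine Equiv.ext fun v => ?_
      show Spread.shear φ (Spread.upp a ((Spread.shear φ)⁻¹ v)) = _
      simp [Spread.shear_inv_apply, sub_eq_add_neg, CharTwo.neg_eq]
      linear_combination add_self (φ v.1)
    · rw [SetLike.mem_coe, Subgroup.mem_comap]
      show Spread.shear φ * Spread.lowS φ c * (Spread.shear φ)⁻¹ ∈ Spread.sl (0 : K →+ K)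
      convert Spread.lowS_mem_sl (0 : K →+ K) c using 1
      rw [lowS_zero, Spread.lowS, shear_self, ← mul_assoc, ← mul_assoc,
        show Spread.shear φ * Spread.shear φ = 1 by
          rw [mul_eq_one_iff_eq_inv, shear_self], one_mul, mul_assoc,
        show Spread.shear φ * Spread.shear φ = 1 by
          rw [mul_eq_one_iff_eq_inv, shear_self], mul_one]
  have := h hl
  rw [Subgroup.mem_comap] at this
  simpa [shear_self] using this

theorem conj_sl' (φ : K →+ K) {l : Equiv.Perm (K × K)} (hl : l ∈ Spread.sl (0 : K →+ K)) :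
    Spread.shear φ * l * Spread.shear φ ∈ Spread.sl φ := by
  have h : Spread.sl (0 : K →+ K) ≤ (Spread.sl φ).comap
      (MulAut.conj (Spread.shear φ)).toMonoidHom := by
    rw [Spread.sl, Subgroup.closure_le]
    rintro _ (⟨a, rfl⟩ | ⟨c, rfl⟩)
    · rw [SetLike.mem_coe, Subgroup.mem_comap]
      show Spread.shear φ * Spread.upp a * (Spread.shear φ)⁻¹ ∈ Spread.sl φ
      convert Spread.upp_mem_sl _ a
      refine Equiv.ext fun v => ?_
      show Spread.shear φ (Spread.upp a ((Spread.shear φ)⁻¹ v)) = _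
      simp [Spread.shear_inv_apply, sub_eq_add_neg, CharTwo.neg_eq]
      linear_combination add_self (φ v.1)
    · rw [SetLike.mem_coe, Subgroup.mem_comap]
      show Spread.shear φ * Spread.lowS 0 c * (Spread.shear φ)⁻¹ ∈ Spread.sl φ
      convert Spread.lowS_mem_sl φ c using 1
      rw [lowS_zero]; rfl
  have := h hl
  rw [Subgroup.mem_comap] at this
  simpa [shear_self] using this

/-- The facts about an automizer used for the comparison. -/
structure Rig (X : Subgroup (Equiv.Perm (K × K × K))) (φ : K →+ K) : Prop where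
  map_add : ∀ x ∈ X, ∀ v w, x (v + w) = x v + x w
  shift_mem : ∀ a, shift a ∈ X
  inj : ∀ x ∈ X, ∀ y ∈ X, FixD x → FixD y → (∀ v, pr (x v) = pr (y v)) → x = y
  lift : ∀ l ∈ Spread.sl φ, ∃ x ∈ X, FixD x ∧ Over x l
  conj : ∀ x ∈ X, ∀ a, FixD (x * shift a * x⁻¹) ∧ ∃ l ∈ Spread.sl φ, Over (x * shift a * x⁻¹) l

theorem twist_self (f g : K →+ K) : twist f g * twist f g = 1 := by
  nth_rewrite 1 [← twist_inv f g]
  exact inv_mul_cancel _

/-- The automizer after shearing. -/
def twisted (X : Subgroup (Equiv.Perm (K × K × K))) (f g : K →+ K) :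
    Subgroup (Equiv.Perm (K × K × K)) := X.map (MulAut.conj (twist f g)).toMonoidHom

theorem mem_twisted {X : Subgroup (Equiv.Perm (K × K × K))} {f g : K →+ K}
    {x : Equiv.Perm (K × K × K)} : x ∈ twisted X f g ↔ twist f g * x * twist f g ∈ X := by
  have hcancel : ∀ y, twist f g * (twist f g * y * twist f g) * twist f g = y := fun y => by
    simp only [mul_assoc, twist_self, mul_one]
    rw [← mul_assoc, twist_self, one_mul]
  constructor
  · rintro ⟨y, hy, rfl⟩
    show twist f g * (twist f g * y * (twist f g)⁻¹) * twist f g ∈ X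
    rw [twist_inv, hcancel]
    exact hy
  · intro h
    refine ⟨_, h, ?_⟩
    show twist f g * (twist f g * x * twist f g) * (twist f g)⁻¹ = x
    rw [twist_inv, hcancel]

theorem twist_cancel (f g : K →+ K) (v : K × K × K) : twist f g (twist f g v) = v := by
  rw [← Equiv.Perm.mul_apply, twist_self]; rfl

theorem pr_twist (f g : K →+ K) (v : K × K × K) : pr (twist f g v) = Spread.shear f (pr v) := rfl

theorem twist_fixD (f g : K →+ K) : FixD (twist f g) := fun d => by simp

theorem Over.conj {x : Equiv.Perm (K × K × K)} {l : Equiv.Perm (K × K)} (hx : Over x l)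
    (f g : K →+ K) : Over (twist f g * x * twist f g) (Spread.shear f * l * Spread.shear f) :=
  Over.mul (Over.mul (fun v => pr_twist f g v) hx) fun v => pr_twist f g v

theorem Rig.twisted {X : Subgroup (Equiv.Perm (K × K × K))} {φ : K →+ K} (h : Rig X φ)
    (g : K →+ K) : Rig (Standard.twisted X φ g) 0 := by
  have hfix : ∀ x, FixD x → FixD (twist φ g * x * twist φ g) := fun x hx =>
    ((twist_fixD φ g).mul hx).mul (twist_fixD φ g)
  refine ⟨fun x hx v w => ?_, fun a => ?_, fun x hx y hy hxD hyD hxy => ?_, fun l hl => ?_,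
    fun x hx a => ?_⟩
  · have hadd : ∀ v w, twist φ g (v + w) = twist φ g v + twist φ g w := fun v w => by
      ext <;> simp <;> abel
    have := h.map_add _ (mem_twisted.1 hx) (twist φ g v) (twist φ g w)
    simp only [Equiv.Perm.mul_apply, hadd, twist_cancel] at this
    refine (twist φ g).injective ?_
    rw [hadd (x v) (x w)]
    exact this
  · rw [mem_twisted, twist_shift, mul_assoc, twist_self, mul_one]
    exact h.shift_mem a
  · have e := h.inj _ (mem_twisted.1 hx) _ (mem_twisted.1 hy) (hfix x hxD) (hfix y hyD) fun v => by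
      simp only [Equiv.Perm.mul_apply, pr_twist, hxy]
    exact mul_left_cancel (mul_right_cancel e)
  · obtain ⟨x, hx, hxD, hxl⟩ := h.lift _ (conj_sl' φ hl)
    refine ⟨twist φ g * x * twist φ g, mem_twisted.2 ?_, hfix x hxD, ?_⟩
    · simp only [mul_assoc, twist_self, mul_one]
      rw [← mul_assoc, twist_self, one_mul]
      exact hx
    · intro v
      rw [hxl.conj φ g v]
      congr 1
      have hs : Spread.shear φ * Spread.shear φ = 1 := by rw [mul_eq_one_iff_eq_inv, shear_self]
      simp only [mul_assoc, hs, mul_one]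
      rw [← mul_assoc, hs, one_mul]
  · obtain ⟨hD, l, hl, hxl⟩ := h.conj _ (mem_twisted.1 hx) a
    have e : x * shift a * x⁻¹ = twist φ g *
        (twist φ g * x * twist φ g * shift a * (twist φ g * x * twist φ g)⁻¹) * twist φ g := by
      have hc : twist φ g * shift a * twist φ g = shift a := by
        rw [twist_shift, mul_assoc, twist_self, mul_one]
      simp only [_root_.mul_inv_rev, twist_inv, mul_assoc, twist_self, mul_one]
      rw [← mul_assoc (twist φ g) (twist φ g), twist_self, one_mul]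
      conv_rhs => rw [← mul_assoc (twist φ g) (shift a), ← mul_assoc (twist φ g * shift a), hc]
    rw [e]
    exact ⟨hfix _ hD, _, conj_sl φ hl, hxl.conj φ g⟩

/-- **The standard lift.** -/
theorem Rig.exists_lifted {X : Subgroup (Equiv.Perm (K × K × K))} {φ : K →+ K} (h : Rig X φ) :
    ∃ g : K →+ K, Rig (Standard.twisted X φ g) 0 ∧ lifted K ≤ Standard.twisted X φ g ∧
      ∀ x ∈ Standard.twisted X φ g, ∀ l ∈ lifted K, x * l * x⁻¹ ∈ lifted K := by
  have h1 := h.twisted 0
  obtain ⟨s, hs, hsD, hsw⟩ := h1.lift _ (Spread.weyl_mem_sl 0 1)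
  have hsp : ∀ v, pr (s v) = (v.2.1, v.1) := fun v => by
    rw [hsw, Spread.weyl_apply _ one_ne_zero]
    simp [pr, CharTwo.neg_eq]
  have hss : s * s = 1 := h1.inj _ (mul_mem hs hs) _ (one_mem _) (hsD.mul hsD) (fun _ => rfl)
    fun v => by
      rw [Equiv.Perm.mul_apply, hsp, Equiv.Perm.one_apply]
      have := hsp v
      simp only [pr, Prod.mk.injEq] at this
      simp [pr, this.1, this.2]
  let g : K →+ K := AddMonoidHom.mk' (fun b => (s (b, 0, 0)).2.2) fun b b' => by
    show (s (b + b', 0, 0)).2.2 = _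
    rw [show ((b + b', 0, 0) : K × K × K) = (b, 0, 0) + (b', 0, 0) by simp, h1.map_add _ hs]
    rfl
  have hg : ∀ c, (s (0, c, 0)).2.2 = g c := by
    intro c
    have e0 : s (c, 0, 0) = (0, c, 0) + (0, 0, g c) := by
      have := hsp (c, 0, 0)
      simp only [pr, Prod.mk.injEq] at this
      ext <;> simp [g, this.1, this.2]
    have e1 := congrArg (fun t : Equiv.Perm (K × K × K) => (t (c, 0, 0)).2.2) hss
    simp only [Equiv.Perm.mul_apply, Equiv.Perm.one_apply] at e1
    rw [e0, h1.map_add _ hs, hsD] at e1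
    simpa [CharTwo.add_eq_zero] using e1
  have hseq : twist 0 g * swap3 * twist 0 g = s := by
    refine Equiv.ext fun v => ?_
    obtain ⟨x, y, d⟩ := v
    rw [show ((x, y, d) : K × K × K) = (x, 0, 0) + (0, y, 0) + (0, 0, d) by simp,
      h1.map_add _ hs, h1.map_add _ hs, hsD]
    have e1 := hsp (x, 0, 0)
    have e2 := hsp (0, y, 0)
    simp only [pr, Prod.mk.injEq] at e1 e2
    have e3 : (s (x, 0, 0)).2.2 = g x := rfl
    ext <;> simp [Equiv.Perm.mul_apply, e1.1, e1.2, e2.1, e2.2, e3, hg]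
    abel
  have htw : Standard.twisted X φ g = Standard.twisted (Standard.twisted X φ 0) 0 g := by
    rw [Standard.twisted, Standard.twisted, Standard.twisted, Subgroup.map_map]
    congr 1
    refine MonoidHom.ext fun x => ?_
    show twist φ g * x * (twist φ g)⁻¹ = twist 0 g * (twist φ 0 * x * (twist φ 0)⁻¹) * (twist 0 g)⁻¹
    rw [show twist φ g = twist 0 g * twist φ 0 by rw [twist_mul, zero_add, add_zero]]
    group
  have h2 := h1.twisted g
  rw [← htw] at h2
  have hle : lifted K ≤ Standard.twisted X φ g := by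
    rw [lifted, Subgroup.closure_le]
    rintro _ (⟨a, rfl⟩ | rfl)
    · exact h2.shift_mem a
    · rw [SetLike.mem_coe, htw, mem_twisted, hseq]; exact hs
  refine ⟨g, h2, hle, fun x hx l hl => ?_⟩
  have hshift : ∀ x ∈ Standard.twisted X φ g, ∀ a, x * shift a * x⁻¹ ∈ lifted K := by
    intro x hx a
    obtain ⟨hD, m, hm, hxm⟩ := h2.conj x hx a
    obtain ⟨y, hy, hym⟩ := exists_over hm
    rw [h2.inj _ (mul_mem (mul_mem hx (h2.shift_mem a)) (inv_mem hx)) y (hle hy) hD
      (lifted_props hy).1 fun v => by rw [hxm, hym]]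
    exact hy
  have hgen : lifted K ≤ (lifted K).comap (MulAut.conj x).toMonoidHom := by
    conv_lhs => rw [lifted]
    rw [Subgroup.closure_le]
    rintro _ (⟨a, rfl⟩ | rfl)
    · exact hshift x hx a
    · show x * swap3 * x⁻¹ ∈ lifted K
      have hlow : x * low3 1 * x⁻¹ ∈ lifted K := by
        have := hshift _ (mul_mem hx (hle swap3_mem_lifted)) 1
        convert this using 1
        rw [low3, _root_.mul_inv_rev, show (swap3 : Equiv.Perm (K × K × K))⁻¹ = swap3 from rfl]
        simp only [mul_assoc]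
      rw [swap3_eq, show x * (low3 1 * shift 1 * low3 1) * x⁻¹ =
        x * low3 1 * x⁻¹ * (x * shift 1 * x⁻¹) * (x * low3 1 * x⁻¹) by group]
      exact mul_mem (mul_mem hlow (hshift x hx 1)) hlow
  exact hgen hl

/-- The facts hold for a nonnormal Sylow subgroup and an invariant long axis. -/
theorem rig_of_setup [Finite K] {X : Subgroup (Equiv.Perm (K × K × K))} {U : Sylow 2 X}
    (h : Setup X U) (hn : ¬ (U : Subgroup X).Normal)
    (hD : ∀ g : X, ∀ v ∈ dAxis K, h.hom g v ∈ dAxis K) : ∃ φ : K →+ K, Rig X φ := by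
  have hfix : ∀ g : X, ∀ u ∈ U, ∀ v ∈ dAxis K, h.hom (g * u * g⁻¹) v = v := by
    intro g u hu v hv
    simp only [h.hom_mul, AddMonoidHom.comp_apply]
    rw [(h.shift_series hu).1 _ (mem_centre.2 (hD _ v hv).1), h.hom_inv']
  obtain ⟨G, π, φ, hG, hπi, hπ, hconjG, hsl, hconj⟩ := h.exists_spread hn hfix
  have hGD : ∀ g : X, g ∈ G ↔ FixD (g : Equiv.Perm (K × K × K)) := fun g => by
    rw [hG]
    refine ⟨fun e d => e (0, 0, d) ⟨rfl, rfl⟩, fun e v hv => ?_⟩
    obtain ⟨x, y, d⟩ := v
    obtain ⟨rfl, rfl⟩ := hv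
    exact e d
  refine ⟨φ, fun x hx v w => h.map_add ⟨x, hx⟩ v w, h.shift_mem, fun x hx y hy hxD hyD hxy => ?_,
    fun l hl => ?_, fun x hx a => ?_⟩
  · have e : π ⟨⟨x, hx⟩, (hGD _).2 hxD⟩ = π ⟨⟨y, hy⟩, (hGD _).2 hyD⟩ := Equiv.ext fun w => by
      have h1 := hπ ⟨⟨x, hx⟩, (hGD _).2 hxD⟩ (w.1, w.2, 0)
      have h2 := hπ ⟨⟨y, hy⟩, (hGD _).2 hyD⟩ (w.1, w.2, 0)
      exact h1.trans ((hxy (w.1, w.2, 0)).trans h2.symm)
    exact congrArg (fun t : G => ((t : X) : Equiv.Perm (K × K × K))) (hπi e)
  · obtain ⟨g, hg⟩ := hsl hl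
    exact ⟨(g : X), (g : X).2, (hGD _).1 g.2, fun v => by rw [← hg]; exact (hπ g v).symm⟩
  · let g : X := ⟨x, hx⟩
    let u : X := ⟨shift a, h.shift_mem a⟩
    have hu : u ∈ U := (h.mem_iff u).2 ⟨a, rfl⟩
    have huG : u ∈ G := (hGD _).2 (fixD_shift a)
    refine ⟨(hGD _).1 (hconjG g u hu), π ⟨_, hconjG g u hu⟩, hconj g ⟨u, huG⟩ hu _, fun v => ?_⟩
    exact (hπ ⟨_, hconjG g u hu⟩ v).symm

end Cfsg.Agent.SpFourCore.Standard
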