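import Cfsg.Agent.Lib.SpFourCore.Base
import Cfsg.Agent.Lib.SpFourCore.Standard.Module

/-!
# Automorphisms of `Syl K` with an invariant long axis, for `|K| ≤ 4`
-/

set_option autoImplicit false
set_option linter.unusedSectionVars false

namespace Cfsg.Agent.SpFourCore.Standard

open EvenLin

variable {K : Type*} [Field K] [CharP K 2]

theorem pow_four [Fintype K] (hq : Fintype.card K ≤ 4) (x : K) : x ^ 4 = x := by
  obtain ⟨n, -, hn⟩ := FiniteField.card K 2
  have h2 : (n : ℕ) ≤ 2 := by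
    by_contra h
    have := Nat.pow_le_pow_right (show 1 ≤ 2 by norm_num) (show 3 ≤ (n : ℕ) by omega)
    omega
  have h1 := n.pos
  have hx := FiniteField.pow_card x
  rcases (show (n : ℕ) = 1 ∨ (n : ℕ) = 2 by omega) with e | e <;> rw [hn, e] at hx
  · rw [pow_one] at hx
    rw [show (4 : ℕ) = 2 * 2 from rfl, pow_mul, hx, hx]
  · exact hx

variable (hp : ∀ x : K, x ^ 4 = x)

include hp in
theorem pow_three' {x : K} (hx : x ≠ 0) : x ^ 3 = 1 := by
  have h : x * (x ^ 3 - 1) = 0 := by linear_combination hp x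
  exact sub_eq_zero.1 ((mul_eq_zero.1 h).resolve_left hx)

include hp in
/-- The nonzero elements are the powers of any element other than zero and one. -/
theorem cases_of_ne {w x : K} (hw0 : w ≠ 0) (hw1 : w ≠ 1) : x = 0 ∨ x = 1 ∨ x = w ∨ x = w ^ 2 := by
  have hw : w ^ 2 + w + 1 = 0 := by
    have h : (w - 1) * (w ^ 2 + w + 1) = 0 := by linear_combination pow_three' hp hw0
    exact (mul_eq_zero.1 h).resolve_left (sub_ne_zero.2 hw1)
  by_cases hx : x = 0
  · exact Or.inl hx
  have h : (x - 1) * ((x - w) * (x - w ^ 2)) = 0 := by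
    linear_combination pow_three' hp hx - pow_three' hp hw0 + (w * x - x ^ 2) * hw
  rcases mul_eq_zero.1 h with e | e
  · exact Or.inr (Or.inl (sub_eq_zero.1 e))
  rcases mul_eq_zero.1 e with e | e
  · exact Or.inr (Or.inr (Or.inl (sub_eq_zero.1 e)))
  · exact Or.inr (Or.inr (Or.inr (sub_eq_zero.1 e)))

/-- A shift of the two coordinates of the centre. -/
def shiftAut (f g f' g' : K →+ K) : MulAut (Syl K) where
  toFun x := ⟨x.a, x.b, x.c + f x.b + f' x.a, x.d + g x.b + g' x.a⟩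
  invFun x := ⟨x.a, x.b, x.c + f x.b + f' x.a, x.d + g x.b + g' x.a⟩
  left_inv x := by
    ext <;> simp only
    · linear_combination add_self (f x.b) + add_self (f' x.a)
    · linear_combination add_self (g x.b) + add_self (g' x.a)
  right_inv x := by
    ext <;> simp only
    · linear_combination add_self (f x.b) + add_self (f' x.a)
    · linear_combination add_self (g x.b) + add_self (g' x.a)
  map_mul' x y := by
    ext <;> simp [CharTwo.two_eq_zero] <;> abel

theorem shiftAut_apply (f g f' g' : K →+ K) (x : Syl K) :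
    shiftAut f g f' g' x = ⟨x.a, x.b, x.c + f x.b + f' x.a, x.d + g x.b + g' x.a⟩ := rfl

theorem shiftAut_inv (f g f' g' : K →+ K) : (shiftAut f g f' g')⁻¹ = shiftAut f g f' g' := rfl

/-- A diagonal automorphism. -/
def diagAut {k l : K} (hk : k ≠ 0) (hl : l ≠ 0) : MulAut (Syl K) where
  toFun x := ⟨k * x.a, l * x.b, k * l * x.c, k ^ 2 * l * x.d⟩
  invFun x := ⟨k⁻¹ * x.a, l⁻¹ * x.b, (k * l)⁻¹ * x.c, (k ^ 2 * l)⁻¹ * x.d⟩
  left_inv x := by ext <;> simp <;> field_simp
  right_inv x := by ext <;> simp <;> field_simp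
  map_mul' x y := by ext <;> simp <;> ring

theorem diagAut_apply {k l : K} (hk : k ≠ 0) (hl : l ≠ 0) (x : Syl K) :
    diagAut hk hl x = ⟨k * x.a, l * x.b, k * l * x.c, k ^ 2 * l * x.d⟩ := rfl

theorem diagAut_mul {k l k' l' : K} (hk : k ≠ 0) (hl : l ≠ 0) (hk' : k' ≠ 0) (hl' : l' ≠ 0) :
    diagAut hk hl * diagAut hk' hl' = diagAut (mul_ne_zero hk hk') (mul_ne_zero hl hl') :=
  MulEquiv.ext fun x => by
    rw [MulAut.mul_apply, diagAut_apply, diagAut_apply, diagAut_apply]
    ext <;> ring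

/-- What is used about an automorphism. -/
structure Good (θ : MulAut (Syl K)) : Prop where
  memA : ∀ x : Syl K, x.a = 0 → (θ x).a = 0
  memB : ∀ x : Syl K, x.b = 0 → (θ x).b = 0
  long : ∀ d : K, (θ ⟨0, 0, 0, d⟩).c = 0
  inner : ∃ m : ℕ, Odd m ∧ ∃ h, θ ^ m = MulAut.conj h

include hp in
/-- **The linear part.** -/
theorem Good.exists_coords [Finite K] {θ : MulAut (Syl K)} (h : Good θ) :
    ∃ k l : K, k ≠ 0 ∧ l ≠ 0 ∧ (∀ x, (θ x).a = k * x.a ∧ (θ x).b = l * x.b) ∧
      ∀ c d, θ ⟨0, 0, c, d⟩ = ⟨0, 0, k * l * c, k ^ 2 * l * d⟩ := by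
  let σa : K →+ K := AddMonoidHom.mk' (fun a => (θ ⟨a, 0, 0, 0⟩).a) fun a a' => by
    show (θ ⟨a + a', 0, 0, 0⟩).a = _
    rw [show (⟨a + a', 0, 0, 0⟩ : Syl K) = ⟨a, 0, 0, 0⟩ * ⟨a', 0, 0, 0⟩ by ext <;> simp,
      map_mul]
    rfl
  let σb : K →+ K := AddMonoidHom.mk' (fun b => (θ ⟨0, b, 0, 0⟩).b) fun a a' => by
    show (θ ⟨0, a + a', 0, 0⟩).b = _
    rw [show (⟨0, a + a', 0, 0⟩ : Syl K) = ⟨0, a, 0, 0⟩ * ⟨0, a', 0, 0⟩ by ext <;> simp,
      map_mul]
    rfl
  have ha : ∀ x, (θ x).a = σa x.a := fun x => by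
    conv_lhs => rw [show x = (⟨0, x.b, x.c, x.d⟩ : Syl K) * ⟨x.a, 0, 0, 0⟩ by ext <;> simp]
    rw [map_mul, Syl.mul_a, h.memA _ rfl, zero_add]
    rfl
  have hb : ∀ x, (θ x).b = σb x.b := fun x => by
    conv_lhs => rw [show x = (⟨0, x.b, 0, 0⟩ : Syl K) * ⟨x.a, 0, x.c, x.d⟩ by ext <;> simp]
    rw [map_mul, Syl.mul_b, h.memB ⟨x.a, 0, x.c, x.d⟩ rfl, add_zero]
    rfl
  obtain ⟨m, hm, h₀, hh₀⟩ := h.inner
  have hita : ∀ (n : ℕ) (x : Syl K), ((θ ^ n) x).a = σa^[n] x.a := by
    intro n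
    induction n with
    | zero => exact fun x => rfl
    | succ n ih => exact fun x => by rw [pow_succ', MulAut.mul_apply, ha, ih, Function.iterate_succ_apply']
  have hitb : ∀ (n : ℕ) (x : Syl K), ((θ ^ n) x).b = σb^[n] x.b := by
    intro n
    induction n with
    | zero => exact fun x => rfl
    | succ n ih => exact fun x => by rw [pow_succ', MulAut.mul_apply, hb, ih, Function.iterate_succ_apply']
  have hida : ∀ a, σa^[m] a = a := fun a => by
    rw [← hita m ⟨a, 0, 0, 0⟩, hh₀, MulAut.conj_apply, Syl.conj_eq]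
  have hidb : ∀ b, σb^[m] b = b := fun b => by
    rw [← hitb m ⟨0, b, 0, 0⟩, hh₀, MulAut.conj_apply, Syl.conj_eq]
  obtain ⟨j, hj⟩ := hm
  rw [hj] at hida hidb
  have hinja : Function.Injective σa := fun a a' e =>
    (hida a).symm.trans ((Function.iterate_succ_apply σa (2 * j) a).trans
      ((congrArg (σa^[2 * j]) e).trans ((Function.iterate_succ_apply σa (2 * j) a').symm.trans (hida a'))))
  have hinjb : Function.Injective σb := fun a a' e =>
    (hidb a).symm.trans ((Function.iterate_succ_apply σb (2 * j) a).trans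
      ((congrArg (σb^[2 * j]) e).trans ((Function.iterate_succ_apply σb (2 * j) a').symm.trans (hidb a'))))
  -- the commutator
  have hcm : ∀ a b, θ ⟨0, 0, a * b, a ^ 2 * b⟩ = ⟨0, 0, σa a * σb b, σa a ^ 2 * σb b⟩ := by
    intro a b
    have e : θ ⟨a, 0, 0, 0⟩ * θ ⟨0, b, 0, 0⟩ * (θ ⟨a, 0, 0, 0⟩)⁻¹ =
        θ ⟨0, b, 0, 0⟩ * θ ⟨0, 0, a * b, a ^ 2 * b⟩ := by
      rw [← map_inv, ← map_mul, ← map_mul, ← map_mul, Syl.conj_eq]
      congr 1
      ext <;> simp
    rw [Syl.conj_eq] at e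
    have hZa : (θ ⟨0, 0, a * b, a ^ 2 * b⟩).a = 0 := h.memA _ rfl
    have hZb : (θ ⟨0, 0, a * b, a ^ 2 * b⟩).b = 0 := h.memB _ rfl
    have hXb : (θ ⟨a, 0, 0, 0⟩).b = 0 := h.memB _ rfl
    have hYa : (θ ⟨0, b, 0, 0⟩).a = 0 := h.memA _ rfl
    have ec := congrArg Syl.c e
    have ed := congrArg Syl.d e
    simp [hZa, hZb, hXb, hYa, CharTwo.two_eq_zero, add_assoc] at ec ed
    rw [ha, hb] at ec ed
    exact Syl.ext hZa hZb ec.symm ed.symm
  let σc : K →+ K := AddMonoidHom.mk' (fun c => (θ ⟨0, 0, c, 0⟩).c) fun a a' => by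
    show (θ ⟨0, 0, a + a', 0⟩).c = _
    rw [show (⟨0, 0, a + a', 0⟩ : Syl K) = ⟨0, 0, a, 0⟩ * ⟨0, 0, a', 0⟩ by ext <;> simp,
      map_mul, Syl.mul_c, h.memA ⟨0, 0, a, 0⟩ rfl, zero_mul, add_zero]
  let ν : K →+ K := AddMonoidHom.mk' (fun c => (θ ⟨0, 0, c, 0⟩).d) fun a a' => by
    show (θ ⟨0, 0, a + a', 0⟩).d = _
    rw [show (⟨0, 0, a + a', 0⟩ : Syl K) = ⟨0, 0, a, 0⟩ * ⟨0, 0, a', 0⟩ by ext <;> simp,
      map_mul, Syl.mul_d, h.memA ⟨0, 0, a, 0⟩ rfl]
    simp
  let σd : K →+ K := AddMonoidHom.mk' (fun c => (θ ⟨0, 0, 0, c⟩).d) fun a a' => by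
    show (θ ⟨0, 0, 0, a + a'⟩).d = _
    rw [show (⟨0, 0, 0, a + a'⟩ : Syl K) = ⟨0, 0, 0, a⟩ * ⟨0, 0, 0, a'⟩ by ext <;> simp,
      map_mul, Syl.mul_d, h.memA ⟨0, 0, 0, a⟩ rfl]
    simp
  have hZ : ∀ c d, θ ⟨0, 0, c, d⟩ = ⟨0, 0, σc c, ν c + σd d⟩ := by
    intro c d
    refine Syl.ext (h.memA _ rfl) (h.memB _ rfl) ?_ ?_ <;>
      rw [show (⟨0, 0, c, d⟩ : Syl K) = ⟨0, 0, c, 0⟩ * ⟨0, 0, 0, d⟩ by ext <;> simp, map_mul]
    · rw [Syl.mul_c, h.long d, h.memA ⟨0, 0, c, 0⟩ rfl]
      simp [σc]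
    · rw [Syl.mul_d, h.memA ⟨0, 0, c, 0⟩ rfl]
      simp [ν, σd]
  have hc : ∀ a b, σc (a * b) = σa a * σb b := fun a b =>
    congrArg Syl.c ((hZ _ _).symm.trans (hcm a b))
  have hd : ∀ a b, ν (a * b) + σd (a ^ 2 * b) = σa a ^ 2 * σb b := fun a b =>
    congrArg Syl.d ((hZ _ _).symm.trans (hcm a b))
  set k := σa 1 with hk'
  set l := σb 1 with hl'
  have hk : k ≠ 0 := fun e => one_ne_zero (hinja (e.trans (map_zero σa).symm))
  have hl : l ≠ 0 := fun e => one_ne_zero (hinjb (e.trans (map_zero σb).symm))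
  -- multiplicativity
  have hmul : ∀ a b, σa (a * b) * k = σa a * σa b := fun a b => by
    have e1 := hc (a * b) 1
    have e2 := hc a b
    have e3 := hc b 1
    have e4 := hc 1 b
    rw [mul_one] at e1 e3
    rw [one_mul] at e4
    have : σa b * l = k * σb b := e3.symm.trans e4
    refine mul_right_cancel₀ hl ?_
    linear_combination (-k) * e1 + k * e2 - σa a * this
  have hlin : ∀ a, σa a = k * a := by
    by_cases hex : ∀ x : K, x = 0 ∨ x = 1
    · intro a
      rcases hex a with rfl | rfl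
      · rw [map_zero, mul_zero]
      · rw [mul_one]
    push Not at hex
    obtain ⟨w, hw0, hw1⟩ := hex
    have hw : w ^ 2 + w + 1 = 0 := by
      have h : (w - 1) * (w ^ 2 + w + 1) = 0 := by linear_combination pow_three' hp hw0
      exact (mul_eq_zero.1 h).resolve_left (sub_ne_zero.2 hw1)
    have hw2 : σa (w ^ 2) * k = σa w ^ 2 := by rw [pow_two, hmul, pow_two]
    have hs : σa (w ^ 2) + σa w + k = 0 := by rw [hk', ← map_add, ← map_add, hw, map_zero]
    have hroot : (σa w - k * w) * (σa w - k * w ^ 2) = 0 := by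
      linear_combination k * hs - hw2 + k ^ 2 * pow_three' hp hw0 - σa w * k * hw
    rcases mul_eq_zero.1 hroot with e | e
    · have hwk := sub_eq_zero.1 e
      intro a
      rcases cases_of_ne hp (x := a) hw0 hw1 with rfl | rfl | rfl | rfl
      · rw [map_zero, mul_zero]
      · rw [mul_one]
      · exact hwk
      · refine mul_right_cancel₀ hk ?_
        linear_combination hw2 + (σa w + k * w) * hwk
    · exfalso
      have hwk := sub_eq_zero.1 e
      have hsq : ∀ a, σa a = k * a ^ 2 := fun a => by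
        rcases cases_of_ne hp (x := a) hw0 hw1 with rfl | rfl | rfl | rfl
        · rw [map_zero]; ring
        · rw [one_pow, mul_one]
        · exact hwk
        · refine mul_right_cancel₀ hk ?_
          linear_combination hw2 + (σa w + k * w ^ 2) * hwk
      have htwice : ∀ a, σa^[2] a = a := fun a => by
        show σa (σa a) = a
        rw [hsq, hsq]
        linear_combination k ^ 3 * hp a + a * pow_three' hp hk
      have hodd : ∀ a, σa a = a := fun a => by
        have e := (Function.iterate_succ_apply σa (2 * j) a).symm.trans (hida a)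
        rw [Function.iterate_mul] at e
        rwa [Function.iterate_fixed (htwice _)] at e
      have hk1 : k = 1 := hodd 1
      have hww := hodd w
      rw [hsq, hk1, one_mul] at hww
      have : w * (w - 1) = 0 := by linear_combination hww
      exact hw1 (sub_eq_zero.1 ((mul_eq_zero.1 this).resolve_left hw0))
  have hlinb : ∀ b, σb b = l * b := fun b => by
    have e3 := hc b 1
    have e4 := hc 1 b
    rw [mul_one] at e3
    rw [one_mul] at e4
    refine mul_left_cancel₀ hk ?_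
    linear_combination e3 - e4 + l * hlin b
  have hlinc : ∀ c, σc c = k * l * c := fun c => by
    have := hc 1 c
    rw [one_mul] at this
    rw [this, hlinb, ← hk']
    ring
  have hlind : (∀ c, ν c = 0) ∧ ∀ d, σd d = k ^ 2 * l * d := by
    have hd' : ∀ a b, ν (a * b) + σd (a ^ 2 * b) = k ^ 2 * l * (a ^ 2 * b) := fun a b => by
      rw [hd, hlin, hlinb]; ring
    by_cases hex : ∀ x : K, x = 0 ∨ x = 1
    · have hone : ∀ x : K, x ≠ 0 → x = 1 := fun x hx => (hex x).resolve_left hx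
      have hd1 : σd 1 = 1 := hone _ fun e => by
        have : θ ⟨0, 0, 0, 1⟩ = θ 1 := by
          rw [hZ, map_zero, map_zero, e, add_zero, map_one]
          rfl
        exact one_ne_zero (congrArg Syl.d (θ.injective this))
      have hkl : k ^ 2 * l = 1 := hone _ (by positivity)
      have hν1 : ν 1 = 0 := by
        have := hd' 1 1
        rw [one_mul, one_pow, one_mul, hd1, hkl, mul_one] at this
        linear_combination this
      refine ⟨fun c => ?_, fun d => ?_⟩
      · rcases hex c with rfl | rfl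
        exacts [map_zero ν, hν1]
      · rcases hex d with rfl | rfl
        · rw [map_zero, mul_zero]
        · rw [hd1, hkl, mul_one]
    push Not at hex
    obtain ⟨w, hw0, hw1⟩ := hex
    have hw : w ^ 2 + w + 1 = 0 := by
      have h : (w - 1) * (w ^ 2 + w + 1) = 0 := by linear_combination pow_three' hp hw0
      exact (mul_eq_zero.1 h).resolve_left (sub_ne_zero.2 hw1)
    have hσ : ∀ b, σd b = k ^ 2 * l * b := fun b => by
      have e1 := hd' 1 (w * b)
      have e2 := hd' w b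
      rw [one_mul, one_pow, one_mul] at e1
      have e3 : σd (w ^ 2 * b) + σd (w * b) + σd b = 0 := by
        rw [← map_add, ← map_add, show w ^ 2 * b + w * b + b = 0 by linear_combination b * hw,
          map_zero]
      linear_combination e3 + e1 - e2 - 2 * σd (w * b) * 1 + k ^ 2 * l * b * hw
        - k ^ 2 * l * b * add_self (1 : K) - k ^ 2 * l * w * b * add_self (1 : K)
        + (k ^ 2 * l * w * b - k ^ 2 * l * w ^ 2 * b - σd (w * b)) * CharTwo.two_eq_zero (R := K)
    refine ⟨fun c => ?_, hσ⟩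
    have := hd' 1 c
    rw [one_mul, one_pow, one_mul, hσ] at this
    linear_combination this
  refine ⟨k, l, hk, hl, fun x => ⟨by rw [ha, hlin], by rw [hb, hlinb]⟩, fun c d => ?_⟩
  rw [hZ, hlinc, hlind.1, hlind.2, zero_add]

end Cfsg.Agent.SpFourCore.Standard
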